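import Groth.Agent.QuotLib.AtlasProps
import Groth.Agent.AlgStLib.SpaceCalc
import Groth.Agent.AlgStLib.LocQDescent

/-!
# Properties of a stack over the base from a chart
-/

set_option autoImplicit false
set_option backward.isDefEq.respectTransparency false
set_option backward.isDefEq.respectTransparency.types false

universe u

open CategoryTheory CategoryTheory.Functor CategoryTheory.Limits MonoidalCategory CartesianMonoidalCategory
open AlgebraicGeometry AlgSp Groth.Agent.FibBase Groth.Agent.AlgStLib

namespace Groth.Agent.QuotLib.LocQToSelf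

variable {S : Scheme.{u}}

/-- The slice over a terminal object is the base. -/
theorem isEquivOver_toSelf_terminal :
    FibCat.IsEquivOver (FibCat.toSelf (FibCat.overCat (𝟙_ (Over S)) : AlgSt.Cat S)) := by
  let G : FibCat.selfOver (Over S) ⥤ᵇ FibCat.overCat (𝟙_ (Over S)) :=
    { toFunctor :=
        { obj := fun (T : Over S) => Over.mk (toUnit T)
          map := fun {T T' : Over S} (f : T ⟶ T') => Over.homMk f (toUnit_unique _ _)
          map_id := fun T => rfl
          map_comp := fun f g => rfl }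
      w := rfl }
  refine ⟨G, ⟨BasedNatIso.mkNatIso (NatIso.ofComponents (fun x => Over.isoMk (Iso.refl _) (toUnit_unique _ _))
      (fun f => ?_)) (fun x => ?_)⟩, ⟨BasedNatIso.mkNatIso (NatIso.ofComponents (fun x => Iso.refl _)
      (fun f => ?_)) (fun x => ?_)⟩⟩
  · refine Over.OverMorphism.ext ?_
    exact (Category.comp_id _).trans (Category.id_comp _).symm
  · exact IsHomLift.of_fac' _ _ _ rfl rfl (by simp; rfl)
  · exact (Category.comp_id _).trans (Category.id_comp _).symm
  · exact IsHomLift.of_fac' _ _ _ rfl rfl (by simp)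

/-- A smooth surjective chart from a scheme with property `P` gives `P` for the structure map. -/
theorem locQ_toSelf {P : MorphismProperty (Sp S)} {𝒳 : AlgSt.Cat S} {U : Over S} (x : FibCat.overCat U ⥤ᵇ 𝒳)
    (hs : AlgSt.RepByAlgSpWith (LocP @Smooth) x) (hsurj : AlgSt.RepByAlgSpWith IsSurjectiveMor x)
    (hP : P ((yon S).map (toUnit U))) : AlgSt.LocQ P (FibCat.toSelf 𝒳) := by
  refine ⟨U, 𝟙_ (Over S), x, FibCat.toSelf (FibCat.overCat (𝟙_ (Over S))), toUnit U, eqToIso ?_, hs, hsurj,
    repByAlgSpWith_smooth_of_isEquivOver isEquivOver_toSelf_terminal, hP⟩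
  rw [comp_toSelf, comp_toSelf]

/-- A stack equivalent to the quotient of a smooth scheme by a smooth group is smooth. -/
theorem locQ_of_isQuotientOf {G H Y Z : Over S} [GrpObj G] [GrpObj H] [Smooth G.hom] [Smooth Y.hom]
    {aZ : AlgGrp.Action H Z} {aY : AlgGrp.Action G Y}
    (h : AlgSt.IsQuotientOf Scheme.fppfPrecoverage H aZ (AlgSt.QuotSt Scheme.fppfPrecoverage G aY)) :
    AlgSt.LocQ (LocP @Smooth) (FibCat.toSelf (AlgSt.QuotSt Scheme.fppfPrecoverage H aZ)) := by
  obtain ⟨e, he⟩ := h
  obtain ⟨g, hg, -⟩ := isEquivOver_inv he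
  obtain ⟨h₁, h₂⟩ := quot_smooth_surjective (G := G) (aX := aY)
  refine locQ_toSelf (BasedFunctor.comp (quotOver Scheme.fppfPrecoverage G aY) g) (repByAlgSpWith_postcomp hg h₁)
    (repByAlgSpWith_postcomp hg h₂) (AlgSpLib.locP_of_repWith ((repWith_yon_map_iff _ _).2 ?_))
  show Smooth (toUnit Y).left
  rw [Over.toUnit_left]
  infer_instance

end Groth.Agent.QuotLib.LocQToSelf
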