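import Groth.Agent.QuotLib.AtlasProps
import Groth.Agent.AlgStLib.StackCrit
import Groth.Agent.AlgStLib.SheafGlue
import Groth.Agent.AlgStLib.SpProps
import Groth.Agent.AlgSpLib.AffineDescProps
import Groth.Agent.AlgSpDec.FppfFamily

/-!
# Quotient categories with scheme torsors under an affine group are stacks
-/

set_option autoImplicit false
set_option backward.isDefEq.respectTransparency false
set_option backward.isDefEq.respectTransparency.types false
set_option linter.style.haveILetI false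

universe u

open CategoryTheory CategoryTheory.Functor CategoryTheory.Limits MonoidalCategory CartesianMonoidalCategory MonObj
open Opposite AlgebraicGeometry AlgSp Groth.Agent.AlgSpLib Groth.Agent.AlgSpDec Groth.Agent.FibBase Groth.Agent.StkLib Groth.Agent.AlgStLib

namespace Groth.Agent.QuotLib.QuotStack

open SheafGlue

variable {S : Scheme.{u}} {G : Over S} [GrpObj G] {X : Over S} {aX : AlgGrp.Action G X}

local notation "K₀" => Scheme.fppfPrecoverage

/-! ## Properties of torsors -/

/-- A property local on the base and satisfied by the group is satisfied by every torsor. -/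
theorem property_π {P : MorphismProperty (Sp S)} (hPb : StableBC P) (hloc : IsLocalOnBase IsFppfCover P)
    (hP : P ((yon S).map (toUnit G))) (A : AlgSt.QuotObj K₀ G aX) : P ((yon S).map A.π) := by
  obtain ⟨Rv, hR, hsec⟩ := A.loc
  have hcov : ∀ x : ↥A.base.left, ∃ (T' : Scheme.{u}) (f : T' ⟶ A.base.left), Rv f ∧ x ∈ Set.range f :=
    fun x => by
      obtain ⟨Y, g, ⟨hg⟩, hx⟩ := hR.1 x
      exact ⟨_, _, hg, hx⟩
  choose T f hf hx using hcov
  have hfp : ∀ x, Flat (f x) ∧ LocallyOfFinitePresentation (f x) := fun x => hR.2 (hf x)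
  choose s hs using fun x => hsec (f x) (hf x)
  have hs' : ∀ x, s x ≫ A.π.left = f x := hs
  let Ts : ↥A.base.left → Over S := fun x => Over.mk (f x ≫ A.base.hom)
  let b : ∀ x, Ts x ⟶ A.P := fun x => Over.homMk (s x) (by
    show s x ≫ A.P.hom = f x ≫ A.base.hom
    rw [← Over.w A.π, ← Category.assoc, hs'])
  have sq : ∀ x, IsPullback ((G ◁ b x) ≫ A.act.act) (snd G (Ts x)) A.π (b x ≫ A.π) := fun x =>
    (AlgSt.isPullback_whiskerLeft (b x)).paste_horiz A.cart
  refine (hloc (fun x => (yon S).obj (Ts x)) (fun x => (yon S).map (b x ≫ A.π)) (IsAlgSpace.yon_obj _)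
    (fun x => IsAlgSpace.yon_obj _)
    (isFppfCover_yon_map Ts (fun x => b x ≫ A.π) (fun x => ?_) (fun x => ?_) (fun x => ⟨x, ?_⟩))
    ((yon S).map A.π) (IsAlgSpace.yon_obj _) (fun x => (yon S).obj (G ⊗ Ts x))
    (fun x => (yon S).map (snd G (Ts x))) (fun x => (yon S).map ((G ◁ b x) ≫ A.act.act))
    (fun x => IsAlgSpace.yon_obj _) (fun x => (sq x).map (yon S))).2
    fun x => hPb (IsAlgSpace.yon_obj _) (IsAlgSpace.yon_obj _) (IsAlgSpace.yon_obj _) (IsAlgSpace.yon_obj _)
      _ _ _ _ ((AlgSt.isPullback_fst_snd G (Ts x)).map (yon S)) hP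
  · show Flat (s x ≫ A.π.left)
    rw [hs']; exact (hfp x).1
  · show LocallyOfFinitePresentation (s x ≫ A.π.left)
    rw [hs']; exact (hfp x).2
  · show x ∈ Set.range (s x ≫ A.π.left)
    rw [hs']; exact hx x

theorem stableBC_isAffineMor : StableBC (IsAffineMor (S := S)) :=
  fun _ _ _ _ _ _ _ _ _ _ _ _ sq h => isAffineMor_of_isPullback sq h

theorem isAffineMor_yon_map {U V : Over S} (a : U ⟶ V) [IsAffineHom a.left] : IsAffineMor ((yon S).map a) :=
  AlgSpDec.isAffineMor_of_repWith (P := @IsAffineHom) le_rfl ((repWith_yon_map_iff _ _).2 ‹_›)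

theorem isLocalOnBase_fppf_isAffineMor : IsLocalOnBase IsFppfCover (IsAffineMor (S := S)) :=
  isLocalOnBase_fppf_of_fpqc isLocalOnBase_fpqc_isAffineMor

/-- Torsors under an affine group are affine over their bases. -/
theorem isAffineHom_π [IsAffineHom G.hom] (A : AlgSt.QuotObj K₀ G aX) : IsAffineHom A.π.left := by
  have : IsAffineHom (toUnit G).left := by
    have h : (toUnit G).left = G.hom := by simpa using Over.w (toUnit G)
    rw [h]; infer_instance
  exact (repWith_yon_map_iff _ _).1 (AlgSpDec.repWith_isAffineHom_of_isAffineMor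
    (property_π stableBC_isAffineMor isLocalOnBase_fppf_isAffineMor (isAffineMor_yon_map _) A))

/-! ## Fibred in groupoids -/

theorem mem_fppf_iff {I₀ : Type (u + 1)} {T : Scheme.{u}} {Z : I₀ → Scheme.{u}} {f : ∀ i, Z i ⟶ T} :
    Presieve.ofArrows Z f ∈ K₀ T ↔
      (∀ x, ∃ i, x ∈ Set.range (f i)) ∧ ∀ i, Flat (f i) ∧ LocallyOfFinitePresentation (f i) :=
  Scheme.ofArrows_mem_precoverage_iff (P := @Flat ⊓ @LocallyOfFinitePresentation)

/-- Local sections pull back. -/
theorem isLocallyTrivialFor_bc {T T' : Over S} {P P' : Over S} {π : P ⟶ T} {π' : P' ⟶ T'} {q : P' ⟶ P}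
    {f : T' ⟶ T} (sq : IsPullback q π' π f)
    (h : NonAbH1.IsLocallyTrivialFor K₀ (Over.mk π.left : Over T.left)) :
    NonAbH1.IsLocallyTrivialFor K₀ (Over.mk π'.left : Over T'.left) := by
  obtain ⟨R, hR, hs⟩ := h
  obtain ⟨I₀, Z, g, rfl⟩ := Presieve.exists_eq_ofArrows R
  rw [mem_fppf_iff] at hR
  refine ⟨Presieve.ofArrows (fun i => pullback f.left (g i)) (fun i => pullback.fst f.left (g i)),
    mem_fppf_iff.2 ⟨fun x => ?_, fun i => ?_⟩, ?_⟩
  · obtain ⟨i, y, hy⟩ := hR.1 (f.left x)
    obtain ⟨w, hw, -⟩ := Scheme.Pullback.exists_preimage_pullback x y hy.symm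
    exact ⟨i, w, hw⟩
  · obtain ⟨_, _⟩ := hR.2 i
    exact ⟨inferInstance, inferInstance⟩
  · rintro _ _ ⟨i⟩
    obtain ⟨s, hs'⟩ := hs (g i) ⟨i⟩
    have sq' : IsPullback q.left π'.left π.left f.left := sq.map (Over.forget S)
    refine ⟨sq'.lift (pullback.snd _ _ ≫ s) (pullback.fst _ _) ?_, sq'.lift_snd _ _ _⟩
    rw [Category.assoc]
    exact (congrArg (pullback.snd f.left (g i) ≫ ·) hs').trans pullback.condition.symm

section Lift

variable (A : AlgSt.QuotObj K₀ G aX) {V : Over S} (f : V ⟶ A.base)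

/-- The base change of an action along a morphism of the base. -/
noncomputable def liftAct : AlgGrp.Action G (pullback A.π f) where
  act := pullback.lift ((G ◁ pullback.fst _ _) ≫ A.act.act) (snd G _ ≫ pullback.snd _ _)
    (by rw [Category.assoc, A.cart.w, whiskerLeft_snd_assoc, pullback.condition, Category.assoc])
  one_act := by
    apply pullback.hom_ext
    · rw [Category.assoc, pullback.lift_fst, ← whisker_exchange_assoc, A.act.one_act, leftUnitor_naturality]
    · rw [Category.assoc, pullback.lift_snd, whiskerRight_snd_assoc, leftUnitor_hom]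
  mul_act := by
    apply pullback.hom_ext
    · rw [Category.assoc, pullback.lift_fst, ← whisker_exchange_assoc, A.act.mul_act]
      simp only [Category.assoc, pullback.lift_fst]
      rw [← MonoidalCategory.whiskerLeft_comp_assoc, pullback.lift_fst, MonoidalCategory.whiskerLeft_comp_assoc,
        associator_naturality_right_assoc]
    · simp only [Category.assoc, pullback.lift_snd, whiskerRight_snd_assoc, whiskerLeft_snd_assoc]
      rw [← Category.assoc, ← Category.assoc]
      refine congrArg (· ≫ pullback.snd _ _) ?_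
      simp

/-- The chosen lift of a morphism of the base. -/
noncomputable def liftObj : AlgSt.QuotObj K₀ G aX where
  base := V
  P := pullback A.π f
  act := liftAct A f
  π := pullback.snd _ _
  cart := IsPullback.of_right (h₁₂ := pullback.fst _ _) (v₁₃ := A.π) (h₂₂ := f) (by
      have := (AlgSt.isPullback_whiskerLeft (G := G) (pullback.fst A.π f)).paste_horiz A.cart
      rw [pullback.condition] at this
      simpa [liftAct] using this)
    (by simp [liftAct]) (IsPullback.of_hasPullback _ _)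
  loc := isLocallyTrivialFor_bc (IsPullback.of_hasPullback _ _) A.loc
  φ := pullback.fst _ _ ≫ A.φ
  eqv := by
    rw [liftAct, pullback.lift_fst_assoc, Category.assoc, A.eqv, MonoidalCategory.whiskerLeft_comp, Category.assoc]

/-- The chosen lift. -/
noncomputable def liftHom : liftObj A f ⟶ A :=
  { base := f
    top := pullback.fst _ _
    eqv := pullback.lift_fst _ _ _
    cart := IsPullback.of_hasPullback _ _
    wφ := rfl }

end Lift

/-- Quotient categories are fibred in groupoids. -/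
theorem isFibGrpd : FibCat.IsFibGrpd (AlgSt.QuotSt K₀ G aX).p where
  exists_lift {A} {V} f := ⟨liftObj A f, liftHom A f, IsHomLift.map (AlgSt.QuotSt K₀ G aX).p (liftHom A f)⟩
  isStronglyCartesian {A' A} φ :=
    { universal_property' := fun {A''} g φ' hφ' => by
        have hg : g ≫ φ.base = φ'.base :=
          IsHomLift.eq_of_isHomLift (AlgSt.QuotSt K₀ G aX).p (g ≫ (AlgSt.QuotSt K₀ G aX).p.map φ) φ'
        refine ⟨homLift φ φ' g hg,
          ⟨IsHomLift.map (AlgSt.QuotSt K₀ G aX).p (homLift φ φ' g hg), homLift_comp φ φ' g hg⟩, ?_⟩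
        rintro χ' ⟨hχ', hc⟩
        have hb' : χ'.base = g := (IsHomLift.eq_of_isHomLift (AlgSt.QuotSt K₀ G aX).p g χ').symm
        exact hom_ext_of_comp φ hb' (hc.trans (homLift_comp φ φ' g hg).symm) }

/-! ## Gluing -/

variable {U : Over S} {R : Sieve U} (H : Stk.sieveCat R ⥤ᵇ AlgSt.QuotSt K₀ G aX)

theorem map_base {a b : (Stk.sieveCat R).obj} (φ : a ⟶ b) :
    (H.map φ).base = eqToHom (H.w_obj a) ≫ φ.hom.left ≫ eqToHom (H.w_obj b).symm := w_map H φ

/-- The diagram of a family of torsors tensored with a fixed object. -/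
noncomputable def diag (Y : Over S) : (Stk.sieveCat R).obj ⥤ Sp S where
  obj a := (yon S).obj (Y ⊗ (H.obj a).P)
  map φ := (yon S).map (Y ◁ (H.map φ).top)
  map_id a := by
    rw [H.toFunctor.map_id]
    exact (congrArg (yon S).map (MonoidalCategory.whiskerLeft_id Y _)).trans ((yon S).map_id _)
  map_comp φ ψ := by
    rw [H.toFunctor.map_comp]
    exact (congrArg (yon S).map (MonoidalCategory.whiskerLeft_comp Y (H.map φ).top (H.map ψ).top)).trans
      ((yon S).map_comp _ _)

/-- The diagram of the torsors themselves. -/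
noncomputable def diag₀ : (Stk.sieveCat R).obj ⥤ Sp S where
  obj a := (yon S).obj (H.obj a).P
  map φ := (yon S).map (H.map φ).top
  map_id a := by rw [H.toFunctor.map_id]; exact (yon S).map_id _
  map_comp φ ψ := by rw [H.toFunctor.map_comp]; exact (yon S).map_comp _ _

/-- The projection of a torsor to the object of the sieve. -/
noncomputable def prj (a : (Stk.sieveCat R).obj) : (H.obj a).P ⟶ a.obj.left :=
  (H.obj a).π ≫ eqToHom (H.w_obj a)

/-- The projections of the diagram of torsors. -/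
noncomputable def proj₀ (a : (Stk.sieveCat R).obj) : (diag₀ H).obj a ⟶ (yon S).obj a.obj.left :=
  (yon S).map (prj H a)

/-- The projections of the tensored diagram. -/
noncomputable def proj (Y : Over S) (a : (Stk.sieveCat R).obj) : (diag H Y).obj a ⟶ (yon S).obj a.obj.left :=
  (yon S).map (snd Y (H.obj a).P ≫ prj H a)

theorem isPullback_prj {a b : (Stk.sieveCat R).obj} (φ : a ⟶ b) :
    IsPullback (H.map φ).top (prj H a) (prj H b) φ.hom.left := by
  refine (H.map φ).cart.paste_vert (IsPullback.of_vert_isIso ⟨?_⟩)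
  rw [map_base H φ]
  simp

theorem isCartesianDiagram₀ : IsCartesianDiagram (diag₀ H) (proj₀ H) := fun _ _ φ =>
  (isPullback_prj H φ).map (yon S)

theorem isCartesianDiagram (Y : Over S) : IsCartesianDiagram (diag H Y) (proj H Y) := fun _ _ φ =>
  ((AlgSt.isPullback_whiskerLeft (G := Y) (H.map φ).top).paste_vert (isPullback_prj H φ)).map (yon S)

variable {H}

theorem cone_base (c : SieveCone H) (a : (Stk.sieveCat R).obj) :
    (c.e a).base ≫ eqToHom c.obj_pt = eqToHom (H.w_obj a) ≫ a.obj.hom := by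
  have := c.lift a
  have h := IsHomLift.fac' (AlgSt.QuotSt K₀ G aX).p a.obj.hom (c.e a)
  change (c.e a).base = _ at h
  rw [h]
  simp

/-- The projection of the point of a cone. -/
noncomputable def ptπ (c : SieveCone H) : c.pt.P ⟶ U := c.pt.π ≫ eqToHom c.obj_pt

theorem isPullback_cone (c : SieveCone H) (a : (Stk.sieveCat R).obj) :
    IsPullback (c.e a).top (prj H a) (ptπ c) a.obj.hom := by
  refine (c.e a).cart.paste_vert (IsPullback.of_vert_isIso ⟨?_⟩)
  rw [cone_base]

theorem isGlued_cone₀ (c : SieveCone H) :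
    IsGlued (diag₀ H) (proj₀ H) ((yon S).obj c.pt.P) ((yon S).map (ptπ c)) fun a => (yon S).map (c.e a).top where
  nat a b φ := by
    have h : (H.map φ).top ≫ (c.e b).top = (c.e a).top :=
      congrArg (fun t : H.obj a ⟶ c.pt => AlgSt.QuotObj.Hom.top t) (c.nat φ)
    show (yon S).map (H.map φ).top ≫ (yon S).map (c.e b).top = (yon S).map (c.e a).top
    rw [← Functor.map_comp, h]
  sq a := (isPullback_cone c a).map (yon S)

theorem isGlued_tensor (Y : Over S) {P : Over S} {π : P ⟶ U} (e : ∀ a, (H.obj a).P ⟶ P)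
    (henat : ∀ ⦃a b : (Stk.sieveCat R).obj⦄ (φ : a ⟶ b), (H.map φ).top ≫ e b = e a)
    (hsq : ∀ a, IsPullback (e a) (prj H a) π a.obj.hom) :
    IsGlued (diag H Y) (proj H Y) ((yon S).obj (Y ⊗ P)) ((yon S).map (snd Y P ≫ π))
      fun a => (yon S).map (Y ◁ e a) where
  nat a b φ := by
    show (yon S).map (Y ◁ (H.map φ).top) ≫ (yon S).map (Y ◁ e b) = _
    rw [← Functor.map_comp, ← MonoidalCategory.whiskerLeft_comp, henat φ]
  sq a := ((AlgSt.isPullback_whiskerLeft (G := Y) (e a)).paste_vert (hsq a)).map (yon S)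

variable (hR : R ∈ J S U)

include hR in
theorem hom_ext_tensor {Y : Over S} {P : Over S} {π : P ⟶ U} {e : ∀ a, (H.obj a).P ⟶ P}
    (hg : IsGlued (diag H Y) (proj H Y) ((yon S).obj (Y ⊗ P)) ((yon S).map (snd Y P ≫ π))
      fun a => (yon S).map (Y ◁ e a))
    {Z : Over S} {f g : Y ⊗ P ⟶ Z} (h : ∀ a, (Y ◁ e a) ≫ f = (Y ◁ e a) ≫ g) : f = g :=
  (yon S).map_injective (hg.hom_ext hR (isCartesianDiagram H Y) fun a => by
    rw [← Functor.map_comp, ← Functor.map_comp, h a])

include hR in
/-- Cones of torsors are universal. -/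
theorem isUniversal (c : SieveCone H) : c.IsUniversal := fun c' => by
  obtain ⟨ψ₀, hψ₀, hψu⟩ := (isGlued_cone₀ c).exists_desc hR (isCartesianDiagram₀ H)
    (fun a => (yon S).map (c'.e a).top) (isGlued_cone₀ c').nat
  obtain ⟨ψ, rfl⟩ := (yon S).map_surjective ψ₀
  have hψ : ∀ a, (c.e a).top ≫ ψ = (c'.e a).top := fun a =>
    (yon S).map_injective (((yon S).map_comp _ _).trans (hψ₀ a))
  have hgY := isGlued_tensor G (fun a => (c.e a).top) (fun a b φ => congrArg (fun t : H.obj a ⟶ c.pt => AlgSt.QuotObj.Hom.top t) (c.nat φ))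
    (isPullback_cone c)
  have : IsIso ((yon S).map ψ) :=
    (isGlued_cone₀ c).isIso_of_comp (isGlued_cone₀ c') hR (isCartesianDiagram₀ H) _ hψ₀
  have : IsIso ψ := isIso_of_fully_faithful (yon S) ψ
  let w : c.pt.base = c'.pt.base := c.obj_pt.trans c'.obj_pt.symm
  have hbot : ψ ≫ c'.pt.π = c.pt.π ≫ eqToHom w := (yon S).map_injective
    ((isGlued_cone₀ c).hom_ext hR (isCartesianDiagram₀ H) fun a => by
      rw [← Functor.map_comp, ← Functor.map_comp, ← Category.assoc, hψ]
      refine congrArg (yon S).map ((cancel_mono (eqToHom c'.obj_pt)).1 ?_)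
      simp only [Category.assoc, eqToHom_trans]
      exact (isPullback_cone c' a).w.trans (isPullback_cone c a).w.symm)
  let φ : c.pt ⟶ c'.pt :=
    { base := eqToHom w
      top := ψ
      eqv := hom_ext_tensor hR hgY fun a => by
        rw [← Category.assoc, ← (c.e a).eqv, Category.assoc, hψ, ← MonoidalCategory.whiskerLeft_comp_assoc, hψ,
          (c'.e a).eqv]
      cart := IsPullback.of_horiz_isIso ⟨hbot⟩
      wφ := (yon S).map_injective ((isGlued_cone₀ c).hom_ext hR (isCartesianDiagram₀ H) fun a => by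
        rw [← Functor.map_comp, ← Functor.map_comp, ← Category.assoc, hψ, (c'.e a).wφ, (c.e a).wφ]) }
  refine ⟨φ, ⟨IsHomLift.of_fac' _ _ φ c.obj_pt c'.obj_pt (by simp [φ, AlgSt.QuotObj.forget]), fun a => ?_⟩, ?_⟩
  · refine AlgSt.QuotObj.hom_ext ?_ (hψ a)
    show (c.e a).base ≫ eqToHom w = (c'.e a).base
    rw [← cancel_mono (eqToHom c'.obj_pt), Category.assoc, eqToHom_trans, cone_base, cone_base]
  · rintro φ' ⟨hφ', he⟩
    refine AlgSt.QuotObj.hom_ext ?_ ((yon S).map_injective (hψu _ fun a => ?_))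
    · have h := IsHomLift.fac' (AlgSt.QuotSt K₀ G aX).p (𝟙 U) φ'
      change φ'.base = _ at h
      rw [h]
      simp [φ]
    · have h : (c.e a).top ≫ φ'.top = (c'.e a).top :=
        congrArg (fun t : H.obj a ⟶ c'.pt => AlgSt.QuotObj.Hom.top t) (he a)
      show (yon S).map (c.e a).top ≫ (yon S).map φ'.top = (yon S).map (c'.e a).top
      rw [← Functor.map_comp, h]

/-- Local sections glue along a covering. -/
theorem isLocallyTrivialFor_of_cover {T P : Over S} {π : P ⟶ T} {I₀ : Type u} (V : I₀ → Over S)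
    (v : ∀ i, V i ⟶ T) (hv : ∀ i, Flat (v i).left) (hv' : ∀ i, LocallyOfFinitePresentation (v i).left)
    (hvs : ∀ x : T.left, ∃ i, x ∈ Set.range (v i).left) (Q : I₀ → Over S) (q : ∀ i, Q i ⟶ P)
    (πQ : ∀ i, Q i ⟶ V i) (hq : ∀ i, q i ≫ π = πQ i ≫ v i)
    (h : ∀ i, NonAbH1.IsLocallyTrivialFor K₀ (Over.mk (πQ i).left : Over (V i).left)) :
    NonAbH1.IsLocallyTrivialFor K₀ (Over.mk π.left : Over T.left) := by
  choose R hR hs using h
  have hex : ∀ i, ∃ (κ : Type (u + 1)) (Z : κ → Scheme.{u}) (g : ∀ j, Z j ⟶ (V i).left),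
      R i = Presieve.ofArrows Z g := fun i => Presieve.exists_eq_ofArrows (R i)
  choose κ Z g hg using hex
  refine ⟨Presieve.ofArrows (fun p : (Σ i : I₀, κ i) => Z p.1 p.2) (fun p => g p.1 p.2 ≫ (v p.1).left),
    mem_fppf_iff.2 ⟨fun x => ?_, fun p => ?_⟩, ?_⟩
  · obtain ⟨i, y, rfl⟩ := hvs x
    have := hR i
    rw [hg, mem_fppf_iff] at this
    obtain ⟨j, z, rfl⟩ := this.1 y
    exact ⟨⟨i, j⟩, z, rfl⟩
  · have := hR p.1
    rw [hg, mem_fppf_iff] at this
    obtain ⟨_, _⟩ := this.2 p.2
    have := hv p.1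
    have := hv' p.1
    exact ⟨inferInstance, inferInstance⟩
  · rintro _ _ ⟨⟨i, j⟩⟩
    obtain ⟨s, hs'⟩ := hs i (g i j) (hg i ▸ ⟨j⟩)
    refine ⟨s ≫ (q i).left, ?_⟩
    show (s ≫ (q i).left) ≫ π.left = g i j ≫ (v i).left
    rw [Category.assoc, ← Over.comp_left, hq, Over.comp_left, ← Category.assoc]
    exact congrArg (· ≫ (v i).left) hs'

include hR in
/-- Families of torsors under an affine group glue. -/
theorem exists_cone [IsAffineHom G.hom] (H : Stk.sieveCat R ⥤ᵇ AlgSt.QuotSt K₀ G aX) : Nonempty (SieveCone H) := by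
  obtain ⟨P₀, π₀, e₀, hg₀⟩ := exists_glued (D := diag₀ H) (πD := proj₀ H) (isCartesianDiagram₀ H)
  have hD₀ := isCartesianDiagram₀ H
  obtain ⟨I₀, V, v, hv, hv', hvs, hvR⟩ := exists_fppf_of_mem_J hR
  have hcov := isFppfCover_yon_map V v hv hv' hvs
  have hP₀ : IsAlgSpace P₀ := isAlgSpace_of_fppf_local (IsAlgSpace.yon_obj U) (fun i => IsAlgSpace.yon_obj (V i)) _
    hcov π₀ fun i => (IsAlgSpace.yon_obj (H.obj (ob (v i) (hvR i))).P).of_iso (hg₀.sq (ob (v i) (hvR i))).isoPullback
  have hπ₀ : IsAffineMor π₀ := (isLocalOnBase_fppf_isAffineMor _ _ (IsAlgSpace.yon_obj U)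
    (fun i => IsAlgSpace.yon_obj (V i)) hcov π₀ hP₀ _ (fun i => proj₀ H (ob (v i) (hvR i)))
    (fun i => e₀ (ob (v i) (hvR i))) (fun i => IsAlgSpace.yon_obj _) (fun i => hg₀.sq _)).2 fun i => by
      have := isAffineHom_π (H.obj (ob (v i) (hvR i)))
      have : IsAffineHom (prj H (ob (v i) (hvR i))).left := by
        show IsAffineHom ((H.obj (ob (v i) (hvR i))).π.left ≫ (eqToHom (H.w_obj (ob (v i) (hvR i)))).left)
        infer_instance
      exact isAffineMor_yon_map (prj H (ob (v i) (hvR i)))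
  have hrep := AlgSpDec.repWith_isAffineHom_of_isAffineMor hπ₀
  obtain ⟨P, π, iso, hiso⟩ : ∃ (P : Over S) (π : P ⟶ U) (iso : (yon S).obj P ≅ P₀),
      iso.hom ≫ π₀ = (yon S).map π := by
    have : IsIso (hrep.rep.fst (𝟙 ((yon S).obj U))) := (hrep.rep.isPullback (𝟙 _)).isIso_fst_of_isIso
    exact ⟨_, hrep.rep.snd (𝟙 _), asIso (hrep.rep.fst (𝟙 ((yon S).obj U))),
      (hrep.rep.isPullback (𝟙 _)).w.trans (Category.comp_id _)⟩
  choose e he using fun a => (yon S).map_surjective (e₀ a ≫ iso.inv)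
  have hg : IsGlued (diag₀ H) (proj₀ H) ((yon S).obj P) ((yon S).map π) fun a => (yon S).map (e a) :=
    { nat := fun a b φ => by rw [he, he, ← Category.assoc, hg₀.nat]
      sq := fun a => (hg₀.sq a).of_iso (Iso.refl _) iso.symm (Iso.refl _) (Iso.refl _)
        (by simp [he]) (by simp) (by simp [← hiso]) (by simp) }
  have henat : ∀ ⦃a a' : (Stk.sieveCat R).obj⦄ (φ : a ⟶ a'), (H.map φ).top ≫ e a' = e a := fun a a' φ =>
    (yon S).map_injective (((yon S).map_comp _ _).trans (hg.nat φ))
  have hsq : ∀ a, IsPullback (e a) (prj H a) π a.obj.hom := fun a =>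
    IsPullback.of_map (yon S) ((yon S).map_injective (((yon S).map_comp _ _).trans
      ((hg.sq a).w.trans ((yon S).map_comp _ _).symm))) (hg.sq a)
  have hgY := fun Y : Over S => isGlued_tensor Y e henat hsq
  have hext : ∀ {Y Z : Over S} {f g : Y ⊗ P ⟶ Z}, (∀ a, (Y ◁ e a) ≫ f = (Y ◁ e a) ≫ g) → f = g :=
    fun {Y Z f g} h => hom_ext_tensor hR (hgY Y) h
  have hext₀ : ∀ {Z : Over S} {f g : P ⟶ Z}, (∀ a, e a ≫ f = e a ≫ g) → f = g := fun {Z f g} h =>
    (yon S).map_injective (hg.hom_ext hR hD₀ fun a => by rw [← Functor.map_comp, ← Functor.map_comp, h a])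
  obtain ⟨α₀, hα₀, -⟩ := (hgY G).exists_desc hR (isCartesianDiagram H G)
    (fun a => (yon S).map ((H.obj a).act.act ≫ e a)) fun a a' φ => by
      show (yon S).map (G ◁ (H.map φ).top) ≫ (yon S).map ((H.obj a').act.act ≫ e a') = _
      rw [← Functor.map_comp, ← Category.assoc, ← (H.map φ).eqv, Category.assoc, henat φ]
  obtain ⟨act, rfl⟩ := (yon S).map_surjective α₀
  have hact : ∀ a, (G ◁ e a) ≫ act = (H.obj a).act.act ≫ e a := fun a =>
    (yon S).map_injective (((yon S).map_comp _ _).trans (hα₀ a))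
  let aP : AlgGrp.Action G P :=
    { act := act
      one_act := hext fun a => by
        rw [whisker_exchange_assoc, hact, ← Category.assoc, (H.obj a).act.one_act, ← leftUnitor_naturality]
      mul_act := hext fun a => by
        rw [whisker_exchange_assoc, hact, ← Category.assoc, (H.obj a).act.mul_act,
          associator_naturality_right_assoc, ← MonoidalCategory.whiskerLeft_comp_assoc, hact,
          MonoidalCategory.whiskerLeft_comp_assoc, hact]
        simp only [Category.assoc] }
  have hwact : act ≫ π = snd G P ≫ π := hext fun a => by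
    rw [reassoc_of% (hact a), (hsq a).w, prj, Category.assoc, reassoc_of% (H.obj a).cart.w, whiskerLeft_snd_assoc,
      (hsq a).w, prj]
    simp only [Category.assoc]
  have hcart : IsPullback act (snd G P) π π := by
    let cmp : G ⊗ P ⟶ pullback π π := pullback.lift act (snd G P) hwact
    have hg' : IsGlued (diag H G) (proj H G) ((yon S).obj (pullback π π))
        ((yon S).map (pullback.snd π π ≫ π)) fun a => (yon S).map ((G ◁ e a) ≫ cmp) :=
      { nat := fun a a' φ => by
          show (yon S).map (G ◁ (H.map φ).top) ≫ (yon S).map ((G ◁ e a') ≫ cmp) = _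
          rw [← Functor.map_comp, ← MonoidalCategory.whiskerLeft_comp_assoc, henat φ]
        sq := fun a => by
          refine IsPullback.map (yon S) (IsPullback.paste_vert ?_ (hsq a))
          refine IsPullback.of_right (h₁₂ := pullback.fst π π) (v₁₃ := π) (h₂₂ := π) ?_ ?_
            (IsPullback.of_hasPullback π π)
          · have h2 : IsPullback (H.obj a).act.act (snd G (H.obj a).P) (prj H a) (prj H a) :=
              (H.obj a).cart.of_iso (Iso.refl _) (Iso.refl _) (Iso.refl _) (eqToIso (H.w_obj a))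
                (by simp) (by simp) (by simp [prj]) (by simp [prj])
            rw [Category.assoc, pullback.lift_fst, hact, (hsq a).w]
            exact h2.paste_horiz (hsq a)
          · rw [Category.assoc, pullback.lift_snd, whiskerLeft_snd] }
    have : IsIso ((yon S).map cmp) := (hgY G).isIso_of_comp hg' hR (isCartesianDiagram H G) _ fun a =>
      ((yon S).map_comp _ _).symm
    have : IsIso cmp := isIso_of_fully_faithful (yon S) cmp
    exact IsPullback.of_iso_pullback ⟨hwact⟩ (asIso cmp) (pullback.lift_fst _ _ _) (pullback.lift_snd _ _ _)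
  obtain ⟨χ₀, hχ₀, -⟩ := hg.exists_desc hR hD₀ (fun a => (yon S).map (H.obj a).φ)
    fun a a' φ => ((yon S).map_comp _ _).symm.trans (congrArg (yon S).map (H.map φ).wφ)
  obtain ⟨φ, rfl⟩ := (yon S).map_surjective χ₀
  have hφ : ∀ a, e a ≫ φ = (H.obj a).φ := fun a => (yon S).map_injective (((yon S).map_comp _ _).trans (hχ₀ a))
  have heπ : ∀ a, e a ≫ π = (H.obj a).π ≫ eqToHom (H.w_obj a) ≫ a.obj.hom := fun a => by
    rw [(hsq a).w, prj, Category.assoc]
  have hloc : NonAbH1.IsLocallyTrivialFor K₀ (Over.mk π.left : Over U.left) := by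
    refine isLocallyTrivialFor_of_cover (fun i => (H.obj (ob (v i) (hvR i))).base)
      (fun i => eqToHom (H.w_obj (ob (v i) (hvR i))) ≫ v i)
      (fun i => ?_) (fun i => ?_) (fun x => ?_) _ (fun i => e (ob (v i) (hvR i)))
      (fun i => (H.obj (ob (v i) (hvR i))).π) (fun i => heπ (ob (v i) (hvR i)))
      fun i => (H.obj (ob (v i) (hvR i))).loc
    · have := hv i
      show Flat ((eqToHom (H.w_obj (ob (v i) (hvR i)))).left ≫ (v i).left)
      infer_instance
    · have := hv' i
      show LocallyOfFinitePresentation ((eqToHom (H.w_obj (ob (v i) (hvR i)))).left ≫ (v i).left)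
      infer_instance
    · obtain ⟨i, y, rfl⟩ := hvs x
      refine ⟨i, (eqToHom (H.w_obj (ob (v i) (hvR i))).symm).left y, ?_⟩
      show ((eqToHom (H.w_obj (ob (v i) (hvR i))).symm) ≫ (eqToHom (H.w_obj (ob (v i) (hvR i))) ≫ v i)).left y = _
      refine congrArg (fun t : (Stk.sieveCat R).p.obj (ob (v i) (hvR i)) ⟶ U => t.left y) ?_
      exact (Category.assoc _ _ _).symm.trans ((congrArg (· ≫ _) (eqToHom_trans _ _)).trans (Category.id_comp _))
  let A : AlgSt.QuotObj K₀ G aX :=
    { base := U, P := P, act := aP, π := π, cart := hcart, loc := hloc, φ := φ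
      eqv := hext fun a => by
        show (G ◁ e a) ≫ act ≫ φ = (G ◁ e a) ≫ (G ◁ φ) ≫ aX.act
        rw [reassoc_of% (hact a), hφ, ← MonoidalCategory.whiskerLeft_comp_assoc, hφ]
        exact (H.obj a).eqv }
  let eH : ∀ a, H.obj a ⟶ A := fun a =>
    { base := eqToHom (H.w_obj a) ≫ a.obj.hom
      top := e a
      eqv := (hact a).symm
      cart := (hsq a).of_iso (Iso.refl _) (Iso.refl _) (eqToIso (H.w_obj a)).symm (Iso.refl _)
        (by simp [A]) (by simp [prj]) (by simp [A]) (by simp)
      wφ := hφ a }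
  exact ⟨⟨A, rfl, eH, fun a => IsHomLift.of_fac' _ _ (eH a) (H.w_obj a) rfl (by simp [eH, A, AlgSt.QuotObj.forget]),
    fun {a a'} g => AlgSt.QuotObj.hom_ext (by
      show (H.map g).base ≫ eqToHom (H.w_obj a') ≫ a'.obj.hom = eqToHom (H.w_obj a) ≫ a.obj.hom
      rw [map_base H g]
      simp) (henat g)⟩⟩

/-- Quotient categories with scheme torsors under an affine group are stacks. -/
theorem isStack [IsAffineHom G.hom] : Stk.IsStack (J S) (AlgSt.QuotSt K₀ G aX) :=
  ⟨isFibGrpd, fun _ _ hR => isStackFor_of_cones isFibGrpd (fun c => isUniversal hR c) (exists_cone hR)⟩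

end Groth.Agent.QuotLib.QuotStack
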