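import Groth.Agent.QuotLib.QuotStack
import Groth.Agent.AlgStLib.SmoothBootstrap
import Groth.Agent.AlgSpDec.SmoothSheafCover

/-!
# Quotient stacks by smooth affine groups with etale-locally trivial torsors
-/

set_option autoImplicit false
set_option backward.isDefEq.respectTransparency false
set_option backward.isDefEq.respectTransparency.types false
set_option linter.style.haveILetI false

universe u

open CategoryTheory CategoryTheory.Functor CategoryTheory.Limits MonoidalCategory CartesianMonoidalCategory MonObj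
open Opposite AlgebraicGeometry AlgSp Groth.Agent.AlgSpLib Groth.Agent.FibBase Groth.Agent.AlgStLib

namespace Groth.Agent.QuotLib.QuotEtale

variable {S : Scheme.{u}} {G : Over S} [GrpObj G] {X : Over S} {aX : AlgGrp.Action G X}

local notation "K₀" => Scheme.fppfPrecoverage
local notation "Kₑ" => Scheme.etalePrecoverage

theorem etale_le_fppf (T : Scheme.{u}) {R : Presieve T} (h : R ∈ (Kₑ : Precoverage Scheme.{u}) T) : R ∈ K₀ T :=
  Scheme.precoverage_mono (P := @Etale) (Q := @Flat ⊓ @LocallyOfFinitePresentation)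
    (fun _ _ f (_ : Etale f) => ⟨inferInstanceAs (Flat f), inferInstanceAs (LocallyOfFinitePresentation f)⟩) T h

theorem singleton_mem_etale {T' T : Scheme.{u}} (f : T' ⟶ T) [Etale f] [Surjective f] :
    Presieve.singleton f ∈ (Kₑ : Precoverage Scheme.{u}) T :=
  (Scheme.singleton_mem_precoverage_iff (P := @Etale) f).2 ⟨f.surjective, ‹Etale f›⟩

/-- An etale-locally trivial torsor as an fppf-locally trivial one. -/
def weakenObj (A : AlgSt.QuotObj Kₑ G aX) : AlgSt.QuotObj K₀ G aX where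
  base := A.base
  P := A.P
  act := A.act
  π := A.π
  cart := A.cart
  loc := by
    obtain ⟨R, hR, h⟩ := A.loc
    exact ⟨R, etale_le_fppf _ hR, h⟩
  φ := A.φ
  eqv := A.eqv

variable (aX) in
/-- Etale-locally trivial torsors are fppf-locally trivial. -/
def weaken : AlgSt.QuotSt Kₑ G aX ⥤ᵇ AlgSt.QuotSt K₀ G aX where
  toFunctor :=
    { obj := weakenObj
      map := fun f => ⟨f.base, f.top, f.eqv, f.cart, f.wφ⟩
      map_id := fun _ => rfl
      map_comp := fun _ _ => rfl }
  w := rfl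

theorem smooth_π [Smooth G.hom] (A : AlgSt.QuotObj K₀ G aX) : Smooth A.π.left := by
  have h := locP_π (R := @Smooth) (isLocalOnBase_fppf_of_fpqc isLocalOnBase_fpqc_locP) ‹_› A (U := A.base) rfl
  rw [eqToHom_refl, Category.comp_id] at h
  exact (repWith_yon_map_iff _ A.π).1
    (repWith_of_locP (IsAlgSpace.yon_obj _) ((IsAlgSpace.yon_obj A.base).representable_from_yon _) h)

theorem surjective_π_left (A : AlgSt.QuotObj K₀ G aX) : Surjective A.π.left := by
  refine ⟨fun x => ?_⟩
  obtain ⟨Rv, hR, hsec⟩ := A.loc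
  obtain ⟨Y, g, ⟨hg⟩, hx⟩ := hR.1 x
  obtain ⟨w, rfl⟩ := hx
  obtain ⟨s, hs⟩ := hsec _ hg
  exact ⟨s w, (Scheme.Hom.comp_apply s A.π.left w).symm.trans (congrArg (fun k => k w) hs)⟩

theorem weaken_isEquivOver [Smooth G.hom] : FibCat.IsEquivOver (weaken aX) := by
  refine isEquivOver_of_exists_iso _ ⟨fun {A B} f => ⟨⟨f.base, f.top, f.eqv, f.cart, f.wφ⟩, rfl⟩⟩
    ⟨fun {A B f g} h => AlgSt.QuotObj.hom_ext (congrArg (fun t : weakenObj A ⟶ weakenObj B => AlgSt.QuotObj.Hom.base t) h :)
      (congrArg (fun t : weakenObj A ⟶ weakenObj B => AlgSt.QuotObj.Hom.top t) h :)⟩ fun A => ?_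
  have := smooth_π A
  have := surjective_π_left A
  obtain ⟨T, ψ, σ, _, _, hσ⟩ := AlgSpDec.exists_etale_section A.π
  let A' : AlgSt.QuotObj Kₑ G aX :=
    { A with
      loc := ⟨Presieve.singleton ψ.left, singleton_mem_etale ψ.left, by
        rintro _ _ ⟨⟩
        exact ⟨σ.left, congrArg CommaMorphism.left hσ⟩⟩ }
  exact ⟨A', Iso.refl A, IsHomLift.id rfl⟩

theorem isStack [Smooth G.hom] [IsAffineHom G.hom] :
    Stk.IsStack (QuotSh.J Kₑ S) (AlgSt.QuotSt Kₑ G aX) :=
  (Groth.Agent.StkLib.isStack_iff_of_isEquivOver _ (F := weaken aX) weaken_isEquivOver).2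
    (isStack_etale_of_fppf QuotStack.isStack)

theorem quotOver_props [Smooth G.hom] [IsAffineHom G.hom] :
    AlgSt.RepByAlgSpWith (LocP @Smooth) (quotOver Kₑ G aX) ∧
      AlgSt.RepByAlgSpWith IsSurjectiveMor (quotOver Kₑ G aX) ∧
        AlgSt.RepByAlgSpWith IsAffineMor (quotOver Kₑ G aX) :=
  ⟨repByAlgSpWith_quot _ fun A _ eU => locP_π (isLocalOnBase_fppf_of_fpqc isLocalOnBase_fpqc_locP) ‹_› (weakenObj A) eU,
    repByAlgSpWith_quot _ fun A _ eU => surjective_π (weakenObj A) eU,
    repByAlgSpWith_quot _ fun A _ eU => by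
      subst eU
      rw [eqToHom_refl, Category.comp_id]
      have : IsAffineHom A.π.left := QuotStack.isAffineHom_π (weakenObj A)
      exact QuotStack.isAffineMor_yon_map _⟩

/-- Quotient stacks by smooth affine groups are algebraic stacks in the etale topology. -/
theorem isAlgStack [Smooth G.hom] [IsAffineHom G.hom] :
    AlgSt.IsAlgStack Kₑ (AlgSt.QuotSt Kₑ G aX) := by
  obtain ⟨h₁, h₂, -⟩ := quotOver_props (aX := aX)
  exact ⟨isStack, repByAlgSp1_diag_of_smooth_cover isStack (isFibGrpd_overCat X)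
    (isDM_of_repByAlgSp (repByAlgSp_overCat X)).1.diag h₁ h₂, X, quotOver Kₑ G aX, h₁, h₂⟩

theorem isAlgStack_fppf [Smooth G.hom] [IsAffineHom G.hom] :
    AlgSt.IsAlgStack K₀ (AlgSt.QuotSt K₀ G aX) := by
  obtain ⟨h₁, h₂⟩ := quot_smooth_surjective (G := G) (aX := aX)
  exact ⟨QuotStack.isStack, repByAlgSp1_diag_of_smooth_cover (isStack_etale_of_fppf QuotStack.isStack)
    (isFibGrpd_overCat X) (isDM_of_repByAlgSp (repByAlgSp_overCat X)).1.diag h₁ h₂, X, quotOver K₀ G aX, h₁, h₂⟩

end Groth.Agent.QuotLib.QuotEtale
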