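import Groth.Agent.QuotLib.QuotStack
import Groth.Agent.QuotLib.TrivHom
import Groth.Agent.IsoNatLib.IsoMap
import Groth.Prelude.Def_ChGrp

/-!
# Change of group for quotient stacks: balanced products
-/

set_option autoImplicit false
set_option backward.isDefEq.respectTransparency false
set_option backward.isDefEq.respectTransparency.types false
set_option linter.style.haveILetI false

universe u

open CategoryTheory CategoryTheory.Functor CategoryTheory.Limits MonoidalCategory CartesianMonoidalCategory MonObj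
open GrpObj Opposite AlgebraicGeometry AlgSp
open Groth.Agent.FibBase Groth.Agent.IsoNatLib Groth.Agent.AlgStLib

namespace Groth.Agent.QuotLib.BalProd

variable {S : Scheme.{u}}

local notation "K₀" => Scheme.fppfPrecoverage

section Hom

variable {G X : Over S} [GrpObj G] {aX : AlgGrp.Action G X}

/-- The group element of a morphism of trivial torsors. -/
noncomputable def gof {T T' : Over S} {a : T ⟶ X} {b : T' ⟶ X} (m : triv K₀ G aX a ⟶ triv K₀ G aX b) : T ⟶ G :=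
  sec G T ≫ m.top ≫ fst G T'

theorem sec_form {T T' : Over S} (g : T ⟶ G) (f : T ⟶ T') :
    sec G T ≫ lift (fst G T * (snd G T ≫ g)) (snd G T ≫ f) = lift g f := by
  rw [sec, comp_lift, comp_mul, lift_fst, lift_snd_assoc, lift_snd_assoc, Category.id_comp, Category.id_comp,
    _root_.one_mul]

theorem comp_form_fst {U T T' : Over S} (a : U ⟶ G) (b : U ⟶ T) (g : T ⟶ G) (f : T ⟶ T') :
    lift a b ≫ lift (fst G T * (snd G T ≫ g)) (snd G T ≫ f) ≫ fst G T' = a * (b ≫ g) := by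
  rw [lift_fst, comp_mul, lift_fst, lift_snd_assoc]

theorem gof_spec {T T' : Over S} {a : T ⟶ X} {b : T' ⟶ X} (m : triv K₀ G aX a ⟶ triv K₀ G aX b) :
    lift (gof m) (m.base ≫ b) ≫ aX.act = a ∧
      m.top = lift (fst G T * (snd G T ≫ gof m)) (snd G T ≫ m.base) := by
  obtain ⟨g, hg, ht⟩ := (hom_triv_iff (T := T) (T' := T') m.base a b).1 m rfl
  have hgg : gof m = g := by
    unfold gof
    rw [ht, ← Category.assoc, sec_form, lift_fst]
  rw [hgg]
  exact ⟨hg, ht⟩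

theorem hom_ext_gof {T T' : Over S} {a : T ⟶ X} {b : T' ⟶ X} {m m' : triv K₀ G aX a ⟶ triv K₀ G aX b}
    (h₁ : m.base = m'.base) (h₂ : gof m = gof m') : m = m' := by
  refine AlgSt.QuotObj.hom_ext h₁ ?_
  rw [(gof_spec m).2, (gof_spec m').2, h₁, h₂]

theorem gof_comp {T T' T'' : Over S} {a : T ⟶ X} {b : T' ⟶ X} {c : T'' ⟶ X}
    (m : triv K₀ G aX a ⟶ triv K₀ G aX b) (m' : triv K₀ G aX b ⟶ triv K₀ G aX c) :
    gof (m ≫ m') = gof m * (((m.base : T ⟶ T') ≫ gof m') : T ⟶ G) := by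
  have h1 : sec G T ≫ m.top = lift (gof m) (m.base : T ⟶ T') := by rw [(gof_spec m).2]; exact sec_form _ _
  show sec G T ≫ (m.top ≫ m'.top) ≫ fst G T'' = _
  rw [← Category.assoc, ← Category.assoc, h1, (gof_spec m').2, Category.assoc]
  exact comp_form_fst _ _ _ _

theorem exists_hom {T T' : Over S} {a : T ⟶ X} {b : T' ⟶ X} (f : T ⟶ T') (g : T ⟶ G)
    (h : lift g (f ≫ b) ≫ aX.act = a) :
    ∃ m : triv K₀ G aX a ⟶ triv K₀ G aX b, m.base = f ∧ gof m = g := by
  obtain ⟨m, hm, ht⟩ := (hom_triv_iff (K := K₀) (aX := aX) f a b).2 g h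
  refine ⟨m, hm, ?_⟩
  unfold gof
  rw [ht, ← Category.assoc, sec_form, lift_fst]

theorem gof_quotOver_map {U : Over S} {z : U ⟶ X} {T T' : Over S} {h : T ⟶ U} {h' : T' ⟶ U}
    (p : Over.mk h ⟶ Over.mk h') :
    gof (aX := aX) (a := h ≫ z) (b := h' ≫ z)
      ((quotOver K₀ G aX).map ((AlgSt.overMap z).map p)) = 1 := by
  show sec G T ≫ (G ◁ p.left) ≫ fst G T' = 1
  exact (congrArg (sec G T ≫ ·) (whiskerLeft_fst G _)).trans (lift_fst _ _)

theorem base_eq_id {T : Over S} {a b : T ⟶ X}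
    (m : triv K₀ G aX a ⟶ triv K₀ G aX b) (h : (AlgSt.QuotSt K₀ G aX).p.IsHomLift (𝟙 T) m) : m.base = 𝟙 T := by
  have e := @IsHomLift.fac' _ _ _ _ (AlgSt.QuotSt K₀ G aX).p _ _ _ _ (𝟙 T) m h
  change m.base = _ at e
  rw [e]
  simp
  rfl

/-- The trivial torsor in its fibre. -/
noncomputable abbrev fibT {T : Over S} (a : T ⟶ X) : (AlgSt.QuotSt K₀ G aX).p.Fiber T := ⟨triv K₀ G aX a, rfl⟩

/-- Isomorphisms of trivial torsors in a fibre are elements of the group moving one point to the other. -/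
noncomputable def isoEquiv {T : Over S} (a b : T ⟶ X) :
    @Iso ((AlgSt.QuotSt K₀ G aX).p.Fiber T) _ (fibT a) (fibT b) ≃ {g : T ⟶ G // lift g b ≫ aX.act = a} :=
  Equiv.ofBijective (fun δ => ⟨gof δ.hom.1, by
    have h := (gof_spec δ.hom.1).1
    rw [base_eq_id δ.hom.1 δ.hom.2, Category.id_comp] at h
    exact h⟩)
  ⟨fun δ ε h => Iso.ext (Subtype.ext (hom_ext_gof
      ((base_eq_id δ.hom.1 δ.hom.2).trans (base_eq_id ε.hom.1 ε.hom.2).symm) (congrArg Subtype.val h))),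
    fun g => by
      obtain ⟨m, hm, hg⟩ := exists_hom (a := a) (b := b) (𝟙 T) g.1 (by rw [Category.id_comp]; exact g.2)
      let φ : fibT (aX := aX) a ⟶ fibT b := ⟨m, IsHomLift.of_fac' _ _ m rfl rfl (by
        show m.base = _
        rw [hm]
        simp
        rfl)⟩
      haveI := fiber_isGroupoid (QuotStack.isFibGrpd (G := G) (aX := aX)) T
      exact ⟨asIso φ, Subtype.ext hg⟩⟩

theorem isoEquiv_val {T : Over S} {a b : T ⟶ X}
    (δ : @Iso ((AlgSt.QuotSt K₀ G aX).p.Fiber T) _ (fibT a) (fibT b)) : (isoEquiv a b δ).1 = gof δ.hom.1 := rfl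

end Hom

section Main

variable {G H Z Y : Over S} [GrpObj G] [GrpObj H] (i : H ⟶ G) [IsMonHom i]
  (aZ : AlgGrp.Action H Z) (aY : AlgGrp.Action G Y) (j : G ⊗ Z ⟶ Y)

/-- The point of the balanced product of a point. -/
noncomputable def jz : Z ⟶ Y := lift 1 (𝟙 Z) ≫ j

variable {i aZ aY j} (hY : ChGrp.IsBalProd K₀ i aZ aY j)

theorem comp_jz {T : Over S} (z : T ⟶ Z) : z ≫ jz j = lift 1 z ≫ j := by
  rw [jz, ← Category.assoc, comp_lift, MonObj.comp_one, Category.comp_id]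

include hY in
theorem act_jz {T : Over S} (gm : T ⟶ G) (z : T ⟶ Z) : lift gm (z ≫ jz j) ≫ aY.act = lift gm z ≫ j := by
  have h := congrArg (fun k => lift gm (lift 1 z) ≫ k) hY.1
  simp only [lift_whiskerLeft_assoc] at h
  rw [AlgGrp.Action.lift_prod_act_assoc, AlgGrp.Action.lift_trivial_act] at h
  rw [comp_jz, ← h]
  congr 2
  show lift gm 1 ≫ μ[G] = gm
  rw [← Hom.mul_def, _root_.mul_one]

include hY in
theorem twist_inv {T : Over S} (et : T ⟶ H) (g : T ⟶ G) (z : T ⟶ Z) :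
    lift (g * (et ≫ i)⁻¹) (lift et z ≫ aZ.act) ≫ j = lift g z ≫ j := by
  rw [← ChGrp.lift_twist_act_assoc i aZ et g z, hY.2.1.w, lift_snd_assoc]

include hY in
theorem move {T : Over S} {a b : T ⟶ Z} {et : T ⟶ H} (h : lift et b ≫ aZ.act = a) :
    lift (et ≫ i) (b ≫ jz j) ≫ aY.act = a ≫ jz j := by
  rw [act_jz hY, ← twist_inv hY et (et ≫ i) b, mul_inv_cancel, h, ← comp_jz]

include hY in
theorem bijective_moves {T : Over S} (a b : T ⟶ Z) :
    Function.Bijective (fun et : {et : T ⟶ H // lift et b ≫ aZ.act = a} =>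
      (⟨et.1 ≫ i, move hY et.2⟩ : {gm : T ⟶ G // lift gm (b ≫ jz j) ≫ aY.act = a ≫ jz j})) := by
  constructor
  · intro et et' h
    have hi : et.1 ≫ i = et'.1 ≫ i := congrArg Subtype.val h
    have e : lift et.1 (lift (et.1 ≫ i) b) = lift et'.1 (lift (et'.1 ≫ i) b) := hY.2.1.hom_ext
      (by rw [ChGrp.lift_twist_act, ChGrp.lift_twist_act, et.2, et'.2, hi])
      (by rw [lift_snd, lift_snd, hi])
    exact Subtype.ext (by simpa using congrArg (fun k => k ≫ fst _ _) e)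
  · rintro ⟨gm, hgm⟩
    rw [act_jz hY, comp_jz] at hgm
    let l := hY.2.1.lift (lift 1 a) (lift gm b) hgm.symm
    have hl : l = lift (l ≫ fst _ _) (lift gm b) := by
      apply CartesianMonoidalCategory.hom_ext
      · rw [lift_fst]
      · rw [lift_snd]; exact hY.2.1.lift_snd _ _ _
    have h1 : l ≫ (ChGrp.twist i aZ).act = lift 1 a := hY.2.1.lift_fst _ _ _
    rw [hl, ChGrp.lift_twist_act] at h1
    have hg := congrArg (fun k => k ≫ fst G Z) h1
    have hz := congrArg (fun k => k ≫ snd G Z) h1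
    simp only [lift_fst, lift_snd] at hg hz
    exact ⟨⟨l ≫ fst _ _, hz⟩, Subtype.ext (mul_inv_eq_one.1 hg).symm⟩

/-- The bijection of the isomorphisms between trivial torsors over one scheme. -/
noncomputable def isoMapF {T : Over S} (h g : T ⟶ Z) :
    @Iso ((AlgSt.QuotSt K₀ H aZ).p.Fiber T) _ (fibT h) (fibT g) ≃
      @Iso ((AlgSt.QuotSt K₀ G aY).p.Fiber T) _ (fibT (h ≫ jz j)) (fibT (g ≫ jz j)) :=
  (isoEquiv h g).trans ((Equiv.ofBijective _ (bijective_moves hY h g)).trans (isoEquiv (h ≫ jz j) (g ≫ jz j)).symm)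

theorem gof_isoMapF {T : Over S} {h g : T ⟶ Z}
    (δ : @Iso ((AlgSt.QuotSt K₀ H aZ).p.Fiber T) _ (fibT h) (fibT g)) :
    gof (isoMapF hY h g δ).hom.1 = gof δ.hom.1 ≫ i := by
  rw [← isoEquiv_val (isoMapF hY h g δ), isoMapF, Equiv.trans_apply, Equiv.trans_apply, Equiv.apply_symm_apply]
  rfl

/-- The bijection of the isomorphisms between trivial torsors. -/
noncomputable def isoMap : IsoMap (quotOver K₀ H aZ)
    (BasedFunctor.comp (AlgSt.overMap (jz j)) (quotOver K₀ G aY)) where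
  f := fun {T} h g => isoMapF hY h g
  res := fun {T T'} {h g h' g'} p q hpq δ δ' hc => by
    have hd : gof (δ'.hom.1 ≫ (quotOver K₀ H aZ).map q : triv K₀ H aZ h' ⟶ triv K₀ H aZ g) =
        gof ((quotOver K₀ H aZ).map p ≫ δ.hom.1 : triv K₀ H aZ h' ⟶ triv K₀ H aZ g) :=
      congrArg (fun m : triv K₀ H aZ h' ⟶ triv K₀ H aZ g => gof m) hc
    have hq : gof (aX := aZ) (a := g') (b := g) ((quotOver K₀ H aZ).map q) = 1 := by
      show sec H T' ≫ (H ◁ q.left) ≫ fst H T = 1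
      exact (congrArg (sec H T' ≫ ·) (whiskerLeft_fst H _)).trans (lift_fst _ _)
    have hp : gof (aX := aZ) (a := h') (b := h) ((quotOver K₀ H aZ).map p) = 1 := by
      show sec H T' ≫ (H ◁ p.left) ≫ fst H T = 1
      exact (congrArg (sec H T' ≫ ·) (whiskerLeft_fst H _)).trans (lift_fst _ _)
    rw [gof_comp, gof_comp, hq, hp, MonObj.comp_one, _root_.mul_one, _root_.one_mul] at hd
    change gof δ'.hom.1 = p.left ≫ gof δ.hom.1 at hd
    have hq' : gof (aX := aY) (a := g' ≫ jz j) (b := g ≫ jz j)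
        ((BasedFunctor.comp (AlgSt.overMap (jz j)) (quotOver K₀ G aY)).map q) = 1 := gof_quotOver_map q
    have hp' : gof (aX := aY) (a := h' ≫ jz j) (b := h ≫ jz j)
        ((BasedFunctor.comp (AlgSt.overMap (jz j)) (quotOver K₀ G aY)).map p) = 1 := gof_quotOver_map p
    refine hom_ext_gof (a := h' ≫ jz j) (b := g ≫ jz j) ?_ ?_
    · show (isoMapF hY h' g' δ').hom.1.base ≫ q.left = p.left ≫ (isoMapF hY h g δ).hom.1.base
      rw [base_eq_id _ (isoMapF hY h' g' δ').hom.2, base_eq_id _ (isoMapF hY h g δ).hom.2, hpq]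
      exact (Category.id_comp _).trans (Category.comp_id _).symm
    · refine (gof_comp (a := h' ≫ jz j) (b := g' ≫ jz j) (c := g ≫ jz j) _ _).trans
        (Eq.trans ?_ (gof_comp (a := h' ≫ jz j) (b := h ≫ jz j) (c := g ≫ jz j) _ _).symm)
      rw [hq', hp']
      erw [gof_isoMapF hY δ', gof_isoMapF hY δ, MonObj.comp_one, _root_.mul_one, _root_.one_mul]
      rw [hd]
      exact Category.assoc _ _ _
  comp := fun {T} h g k δ ε => by
    refine Iso.ext (Subtype.ext (hom_ext_gof (a := h ≫ jz j) (b := k ≫ jz j)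
      ((base_eq_id _ (isoMapF hY h k (δ ≪≫ ε)).hom.2).trans
        (base_eq_id _ (isoMapF hY h g δ ≪≫ isoMapF hY g k ε).hom.2).symm) ?_))
    show gof (isoMapF hY h k (δ ≪≫ ε)).hom.1 = gof ((isoMapF hY h g δ).hom.1 ≫ (isoMapF hY g k ε).hom.1)
    rw [gof_isoMapF, gof_comp, gof_isoMapF, gof_isoMapF, base_eq_id _ (isoMapF hY h g δ).hom.2]
    show gof (δ.hom.1 ≫ ε.hom.1) ≫ i = _
    rw [gof_comp, base_eq_id _ δ.hom.2, MonObj.mul_comp, Category.assoc]

/-- The arrows over which an object receives a value of a chart. -/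
def chartSieve {U : Over S} {𝒳 : AlgSt.Cat S} (x : FibCat.overCat U ⥤ᵇ 𝒳) (a : 𝒳.obj) : Sieve (𝒳.p.obj a) where
  arrows V f := ∃ (g : V ⟶ U) (φ : x.obj (Over.mk g) ⟶ a), 𝒳.p.IsHomLift f φ
  downward_closed := by
    rintro V V' f ⟨g, φ, hφ⟩ k
    have : 𝒳.p.IsHomLift k (x.map (ovHom k g)) := overMap_isHomLift x (ovHom k g)
    exact ⟨k ≫ g, x.map (ovHom k g) ≫ φ, inferInstance⟩

theorem generate_mem_J {T : Over S} {R : Presieve T.left} (hR : R ∈ K₀ T.left) :
    (Sieve.overEquiv T).symm (Sieve.generate R) ∈ J S T :=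
  GrothendieckTopology.overEquiv_symm_mem_over _ T _ (Precoverage.generate_mem_toGrothendieck hR)

theorem exists_triv_of_factor {G X : Over S} [GrpObj G] {aX : AlgGrp.Action G X} (A : AlgSt.QuotObj K₀ G aX) :
    ∃ R ∈ J S A.base, ∀ ⦃V : Over S⦄ (f : V ⟶ A.base), R f →
      ∃ (x : V ⟶ X) (h : triv K₀ G aX x ⟶ A), h.base = f := by
  obtain ⟨R, hR, hsec⟩ := exists_cover_triv A
  refine ⟨_, generate_mem_J hR, fun V f hf => ?_⟩
  obtain ⟨T', k, g, hg, hfac⟩ := hf
  obtain ⟨x, h, hb⟩ := hsec g hg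
  let kk : V ⟶ Over.mk (g ≫ A.base.hom) := Over.homMk k (by
    show k ≫ g ≫ A.base.hom = V.hom
    rw [← Category.assoc, hfac]
    exact Over.w f)
  obtain ⟨m, hm, -⟩ := exists_hom (aX := aX) (a := kk ≫ x) (b := x) kk 1 (AlgGrp.Action.lift_one_act aX _)
  refine ⟨kk ≫ x, m ≫ h, ?_⟩
  show m.base ≫ h.base = f
  rw [hm, hb]
  exact Over.OverMorphism.ext hfac

theorem chart_cover_Z (a : (AlgSt.QuotSt K₀ H aZ).obj) :
    ∃ R ∈ QuotSh.J K₀ S ((AlgSt.QuotSt K₀ H aZ).p.obj a), ∀ ⦃V : Over S⦄ (f : V ⟶ _), R f →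
      ∃ (g : V ⟶ Z) (φ : (quotOver K₀ H aZ).obj (Over.mk g) ⟶ a), (AlgSt.QuotSt K₀ H aZ).p.IsHomLift f φ := by
  obtain ⟨R, hR, hR'⟩ := exists_triv_of_factor a
  refine ⟨R, hR, fun V f hf => ?_⟩
  obtain ⟨x, h, hb⟩ := hR' f hf
  exact ⟨x, h, IsHomLift.of_fac' _ f h rfl rfl (by show h.base = _; rw [hb]; simp)⟩

include hY in
theorem chart_cover_Y (b : (AlgSt.QuotSt K₀ G aY).obj) :
    ∃ R ∈ QuotSh.J K₀ S ((AlgSt.QuotSt K₀ G aY).p.obj b), ∀ ⦃V : Over S⦄ (f : V ⟶ _), R f →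
      ∃ (g : V ⟶ Z) (φ : (BasedFunctor.comp (AlgSt.overMap (jz j)) (quotOver K₀ G aY)).obj (Over.mk g) ⟶ b),
        (AlgSt.QuotSt K₀ G aY).p.IsHomLift f φ := by
  obtain ⟨R, hR, hR'⟩ := exists_triv_of_factor b
  refine ⟨chartSieve (BasedFunctor.comp (AlgSt.overMap (jz j)) (quotOver K₀ G aY)) b, ?_, fun V f hf => hf⟩
  refine (J S).transitive hR _ fun V f hf => ?_
  obtain ⟨y, h, hb⟩ := hR' f hf
  obtain ⟨Ry, hRy, hsec⟩ := hY.2.2
  refine (J S).superset_covering ?_ ((J S).pullback_stable y (generate_mem_J hRy))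
  intro V' k hk
  obtain ⟨T', l, g, hg, hfac⟩ := hk
  obtain ⟨s, hs⟩ := hsec g hg
  have hs' : s ≫ j.left = g := hs
  let w : V' ⟶ G ⊗ Z := Over.homMk (l ≫ s) (by
    show (l ≫ s) ≫ (G ⊗ Z).hom = V'.hom
    rw [← Over.w j, Category.assoc, ← Category.assoc s, hs', ← Category.assoc, hfac]
    exact Over.w (k ≫ y))
  have hw : w ≫ j = k ≫ y := Over.OverMorphism.ext (by
    show (l ≫ s) ≫ j.left = (k ≫ y).left
    rw [Category.assoc, hs']
    exact hfac)
  let gm : V' ⟶ G := w ≫ fst G Z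
  let z : V' ⟶ Z := w ≫ snd G Z
  have hwe : lift gm z = w := by
    simp only [gm, z, ← comp_lift, lift_fst_snd, Category.comp_id]
  obtain ⟨m, hm, -⟩ := exists_hom (aX := aY) (a := z ≫ jz j) (b := y) k gm⁻¹ (by
    rw [← hw, ← hwe, ← act_jz hY, ← AlgGrp.Action.lift_mul_act, inv_mul_cancel, AlgGrp.Action.lift_one_act])
  refine ⟨z, m ≫ h, IsHomLift.of_fac' _ (k ≫ f) (m ≫ h) rfl rfl ?_⟩
  show m.base ≫ h.base = _
  rw [hm, hb]
  simp

include hY in
/-- The quotient of a scheme by a subgroup is the quotient of the balanced product by the group. -/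
theorem isQuotientOf [IsAffineHom G.hom] [IsClosedImmersion i.left] :
    AlgSt.IsQuotientOf K₀ H aZ (AlgSt.QuotSt K₀ G aY) := by
  haveI : IsAffineHom H.hom := by
    rw [← Over.w i]
    infer_instance
  exact exists_equiv_of_isoMap_cover QuotStack.isStack QuotStack.isStack chart_cover_Z (chart_cover_Y hY)
    (isoMap hY)

end Main

end Groth.Agent.QuotLib.BalProd
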