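import Groth.Agent.QuotLib.QuotEtale
import Groth.Agent.AlgStLib.DiagCover
import Groth.Agent.AlgStLib.Small

/-!
# Quotient stacks by affine groups of schemes with affine diagonal have affine diagonal
-/

set_option autoImplicit false
set_option backward.isDefEq.respectTransparency false
set_option backward.isDefEq.respectTransparency.types false
set_option linter.style.haveILetI false

universe u

open CategoryTheory CategoryTheory.Functor CategoryTheory.Limits AlgebraicGeometry AlgSp
open Groth.Agent.FibBase Groth.Agent.AlgSpLib Groth.Agent.AlgStLib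

namespace Groth.Agent.QuotLib.AffineDiag

variable {S : Scheme.{u}}

/-- Morphisms with affine diagonal. -/
def affDiag : MorphismProperty (Sp S) := fun _ _ f => IsAffineMor (pullback.diagonal f)

theorem cancels_isAffineMor : Cancels (IsAffineMor (S := S)) affDiag := by
  intro X Y Z hX hY hZ a b hab hb
  have h1 : (pullback.lift (𝟙 X) a (by simp) : X ⟶ pullback (a ≫ b) b) ≫ pullback.snd (a ≫ b) b = a :=
    pullback.lift_snd _ _ _
  rw [← h1]
  exact stableComp_isAffineMor hX (isAlgSpace_pullback hX hY hZ (a ≫ b) b) hY _ _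
    (AlgSpDec.isAffineMor_of_repWith le_rfl (AlgSpPts.graph_property (AlgSpDec.repWith_isAffineHom_of_isAffineMor hb)))
    (isAffineMor_of_isPullback (IsPullback.of_hasPullback (a ≫ b) b) hab)

theorem affDiag_yon_map {U V : Over S} (a : U ⟶ V) (h : IsAffineHom (pullback.diagonal a.left)) :
    affDiag ((yon S).map a) :=
  AlgSpDec.isAffineMor_of_repWith (P := @IsAffineHom) le_rfl
    (repWith_diagonal (P := MorphismProperty.diagonal @IsAffineHom) ((repWith_yon_map_iff _ _).2 h) fun _ h => h)

/-- The structure map of a scheme with affine diagonal over the base. -/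
theorem repByAlgSpWith_toSelf_overCat (X : Over S) (hX : IsAffineHom (pullback.diagonal X.hom)) :
    AlgSt.RepByAlgSpWith affDiag (FibCat.toSelf (FibCat.overCat X : AlgSt.Cat S)) := fun T y => by
  have hy : y = FibCat.toSelf (FibCat.overCat T) := by
    obtain ⟨F, w⟩ := y
    simp only [FibCat.toSelf, BasedFunctor.mk.injEq]
    exact (Functor.comp_id F).symm.trans w
  subst hy
  refine ⟨⟨(yon S).obj (T ⨯ X), IsAlgSpace.yon_obj _⟩, BasedFunctor.comp (AlgSt.toOverCat (T ⨯ X)) (sliceProd T X),
    isEquivOver_comp (isEquivOver_toOverCat _) (sliceProd_isEquivOver T X), ?_⟩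
  rw [spMapOfOver_congr (show BasedFunctor.comp (BasedFunctor.comp (AlgSt.toOverCat (T ⨯ X)) (sliceProd T X))
      (FibCat.fpFst _ _) ≅ BasedFunctor.comp (AlgSt.ofSpMap ((yon S).map prod.fst)) (AlgSt.toOverCat T) from
      toOverCatMapIso prod.fst), spMapOfOver_ofSpMap_toOverCat]
  refine affDiag_yon_map _ ?_
  refine MorphismProperty.of_isPullback (P := MorphismProperty.diagonal @IsAffineHom)
    ((IsPullback.of_is_product' (prodIsProd T X) Over.mkIdTerminal).map (Over.forget S)).flip ?_
  show IsAffineHom (pullback.diagonal (Over.mkIdTerminal.from X).left)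
  rw [show (Over.mkIdTerminal.from X).left = X.hom from (Category.comp_id _).symm.trans (Over.w _)]
  exact hX

/-- The quotient stack of a scheme with affine diagonal by a smooth affine group has affine diagonal. -/
theorem repByAlgSpWith_diag_quotSt [IsAffine S] {G X : Over S} [GrpObj G] {aX : AlgGrp.Action G X}
    [Smooth G.hom] [IsAffineHom G.hom] (hX : IsAffineHom (pullback.diagonal X.hom)) :
    AlgSt.RepByAlgSpWith IsAffineMor (FibCat.diag (FibCat.toSelf (AlgSt.QuotSt Scheme.etalePrecoverage G aX))) := by
  obtain ⟨h₁, h₂, h₃⟩ := QuotEtale.quotOver_props (G := G) (aX := aX)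
  let p := quotOver Scheme.etalePrecoverage G aX
  let t := FibCat.toSelf (AlgSt.QuotSt Scheme.etalePrecoverage G aX)
  have hΔ := (QuotEtale.isAlgStack (G := G) (aX := aX)).diag
  have hes : LocEssSurj p := locEssSurj_of_atlas h₁ h₂
  have hpt : AlgSt.RepByAlgSpWith affDiag (BasedFunctor.comp p t) := by
    rw [comp_toSelf]
    exact repByAlgSpWith_toSelf_overCat X hX
  have hweak : AlgSt.RepByAlgSpWith IsAffineMor (weaken p p t) :=
    repByAlgSpWith_of_comp stableBC_isAffineMor cancels_isAffineMor (repByAlgSpWith_fpFst _ hpt)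
      (repByAlgSpWith_fpFst p h₃)
  exact repByAlgSpWith_of_locEssSurj stableBC_isAffineMor QuotStack.isLocalOnBase_fppf_isAffineMor hΔ
    (locEssSurj_pairMap t hes hes)
    ((repByAlgSpWith_iff_of_square (f' := weaken p p t) (f := FibCat.fpFst (pairMap p p t) (FibCat.diag t))
      (a := diagComparison p p t) (b := BasedFunctor.id _) (diagComparison_isEquivOver p p t) isEquivOver_id
      (Iso.refl _)).2 hweak)

end Groth.Agent.QuotLib.AffineDiag
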