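import Groth.Agent.QuotLib.HomogProd
import Groth.Agent.H23.AMonFree
import Groth.Agent.GrpSchLib.AffineHopf
import Groth.Agent.GrpSchLib.Cartier
import Groth.Agent.S5427
import Mathlib.Algebra.Group.UniqueProds.Basic
import Mathlib.RingTheory.FiniteType

/-!
# Exact sequences of diagonalisable groups as homogeneous spaces
-/

set_option autoImplicit false
set_option backward.isDefEq.respectTransparency false
set_option backward.isDefEq.respectTransparency.types false
set_option linter.style.haveILetI false

universe u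

open Groth.Agent.GrpSchLib
open CategoryTheory CategoryTheory.Limits Opposite MonoidalCategory CartesianMonoidalCategory MonObj GrpObj AlgebraicGeometry

namespace Groth.Agent.QuotLib.DiagKernel

variable (k : Type u) [Field k] {M N : Type} [AddCommGroup M] [AddCommGroup N]

theorem isClosedImmersion_diagMap (f : N →+ M) (hf : Function.Surjective f) :
    IsClosedImmersion (Red.diagMap k f).left :=
  IsClosedImmersion.spec_of_surjective _ fun y => by
    obtain ⟨x, hx⟩ := Finsupp.mapDomain_surjective (f := AddMonoidHom.toMultiplicative f) hf y.coeff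
    exact ⟨MonoidAlgebra.ofCoeff x, MonoidAlgebra.coeff_injective hx⟩

theorem one_left (M : Type) [AddCommGroup M] :
    η[Red.diag k M].left = Spec.map (CommRingCat.ofHom
      (Bialgebra.counitAlgHom k (MonoidAlgebra k (Multiplicative M))).toRingHom) := rfl

theorem toSpecΓ_injective {X : Scheme.{u}} {A : CommRingCat.{u}} {a b : A ⟶ Γ(X, ⊤)}
    (h : X.toSpecΓ ≫ Spec.map a = X.toSpecΓ ≫ Spec.map b) : a = b :=
  congrArg Quiver.Hom.unop ((ΓSpec.adjunction.homEquiv X (op A)).injective (a₁ := a.op) (a₂ := b.op) h)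

/-- Points of an affine scheme killed by a map lift when homomorphisms of coordinate rings factor. -/
theorem exists_lift_sp {R : Type u} [CommRing R] {A B C : Type u} [CommRing A] [CommRing B] [CommRing C]
    [Algebra R A] [Algebra R B] [Algebra R C] (p : A →ₐ[R] C) (q : B →ₐ[R] A) (ε : B →ₐ[R] R)
    (hfac : ∀ (D : Type u) [CommRing D] [Algebra R D] (φ : A →ₐ[R] D),
      φ.comp q = (Algebra.ofId R D).comp ε → ∃ ψ : C →ₐ[R] D, ψ.comp p = φ)
    {T : Over (Spec (CommRingCat.of R))} (g : T ⟶ AffineHopf.sp R A)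
    (hg : (g ≫ AffineHopf.spMap q).left = T.hom ≫ Spec.map (CommRingCat.ofHom ε.toRingHom)) :
    ∃ h : T ⟶ AffineHopf.sp R C, h ≫ AffineHopf.spMap p = g := by
  obtain ⟨φ₀, hφ₀⟩ : ∃ φ : CommRingCat.of A ⟶ Γ(T.left, ⊤), T.left.toSpecΓ ≫ Spec.map φ = g.left :=
    ⟨_, (ΓSpec.adjunction.homEquiv T.left (op (CommRingCat.of A))).apply_symm_apply g.left⟩
  letI : Algebra R Γ(T.left, ⊤) := (φ₀.hom.comp (algebraMap R A)).toAlgebra
  let φ : A →ₐ[R] Γ(T.left, ⊤) := { φ₀.hom with commutes' := fun r => rfl }
  have hT : T.left.toSpecΓ ≫ Spec.map (CommRingCat.ofHom (algebraMap R Γ(T.left, ⊤))) = T.hom := by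
    rw [← Over.w g, ← hφ₀, Category.assoc]
    show _ = T.left.toSpecΓ ≫ Spec.map φ₀ ≫ Spec.map (CommRingCat.ofHom (algebraMap R A))
    rw [← Spec.map_comp]
    rfl
  have hq : φ.comp q = (Algebra.ofId R _).comp ε := by
    rw [Over.comp_left, ← hφ₀, ← hT] at hg
    change (T.left.toSpecΓ ≫ Spec.map φ₀) ≫ Spec.map (CommRingCat.ofHom q.toRingHom) = _ at hg
    rw [Category.assoc, Category.assoc, ← Spec.map_comp, ← Spec.map_comp] at hg
    exact AlgHom.coe_ringHom_injective (congrArg CommRingCat.Hom.hom (toSpecΓ_injective hg))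
  obtain ⟨ψ, hψ⟩ := hfac _ φ hq
  have he : (T.left.toSpecΓ ≫ Spec.map (CommRingCat.ofHom ψ.toRingHom)) ≫ (AffineHopf.spMap p).left = g.left := by
    show (_ ≫ _) ≫ Spec.map (CommRingCat.ofHom p.toRingHom) = _
    rw [Category.assoc, ← Spec.map_comp, ← hφ₀]
    refine congrArg (fun z => T.left.toSpecΓ ≫ Spec.map z) (CommRingCat.hom_ext ?_)
    exact congrArg AlgHom.toRingHom hψ
  exact ⟨Over.homMk (T.left.toSpecΓ ≫ Spec.map (CommRingCat.ofHom ψ.toRingHom))
    (by rw [← Over.w (AffineHopf.spMap p), ← Category.assoc, he, Over.w g]), Over.OverMorphism.ext he⟩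

/-- Characters trivial on the kernel factor. -/
theorem exists_factor (f : N →+ M) (hf : Function.Surjective f) (D : Type u) [CommRing D] [Algebra k D]
    (φ : MonoidAlgebra k (Multiplicative N) →ₐ[k] D)
    (h : φ.comp (MonoidAlgebra.mapDomainAlgHom k k (AddMonoidHom.toMultiplicative f.ker.subtype)) =
      (Algebra.ofId k D).comp (Bialgebra.counitAlgHom k (MonoidAlgebra k (Multiplicative f.ker)))) :
    ∃ ψ : MonoidAlgebra k (Multiplicative M) →ₐ[k] D,
      ψ.comp (MonoidAlgebra.mapDomainAlgHom k k (AddMonoidHom.toMultiplicative f)) = φ := by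
  let χ : Multiplicative N →* Dˣ :=
    ((φ : MonoidAlgebra k (Multiplicative N) →* D).comp (MonoidAlgebra.of k (Multiplicative N))).toHomUnits
  have hker : (AddMonoidHom.toMultiplicative f).ker ≤ χ.ker := fun x hx => by
    have hl : x.toAdd ∈ f.ker := congrArg Multiplicative.toAdd (MonoidHom.mem_ker.1 hx)
    have h2 := congrArg (fun z => z (MonoidAlgebra.single (Multiplicative.ofAdd (⟨x.toAdd, hl⟩ : f.ker)) 1)) h
    refine MonoidHom.mem_ker.2 (Units.ext ?_)
    show φ (MonoidAlgebra.single x 1) = 1
    simpa using h2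
  let χ' : Multiplicative M →* Dˣ := (AddMonoidHom.toMultiplicative f).liftOfSurjective hf ⟨χ, hker⟩
  have hχ : ∀ x, χ' (AddMonoidHom.toMultiplicative f x) = χ x := fun x =>
    MonoidHom.liftOfRightInverse_comp_apply _ _ _ ⟨χ, hker⟩ x
  refine ⟨MonoidAlgebra.lift k D (Multiplicative M) ((Units.coeHom _).comp χ'),
    MonoidAlgebra.algHom_ext (fun x => ?_) (by ext)⟩
  rw [AlgHom.comp_apply, MonoidAlgebra.mapDomainAlgHom_apply, MonoidAlgebra.mapDomain_single,
    MonoidAlgebra.lift_single, one_smul]
  exact congrArg Units.val (hχ x)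

/-- Points killed by the map to the quotient torus lift to the kernel. -/
theorem exists_lift (f : N →+ M) (hf : Function.Surjective f) {T : Over (Spec (CommRingCat.of k))}
    (g : T ⟶ Red.diag k N) (hg : g ≫ Red.diagMap k f.ker.subtype = 1) :
    ∃ h : T ⟶ Red.diag k M, h ≫ Red.diagMap k f = g := by
  refine exists_lift_sp (MonoidAlgebra.mapDomainAlgHom k k (AddMonoidHom.toMultiplicative f))
    (MonoidAlgebra.mapDomainAlgHom k k (AddMonoidHom.toMultiplicative f.ker.subtype))
    (Bialgebra.counitAlgHom k (MonoidAlgebra k (Multiplicative f.ker))) (exists_factor k f hf) g ?_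
  have h1 := congrArg (fun z => z.left) hg
  simp only [Hom.one_def, Over.comp_left, one_left] at h1
  exact h1

/-- The action of a group on another through a homomorphism. -/
noncomputable abbrev act {S : Scheme.{u}} {G G' : Over S} [GrpObj G] [GrpObj G'] (π : G ⟶ G') [IsMonHom π] :
    AlgGrp.Action G G' :=
  (NonAbH1.trivialAction G').restrict π

theorem orbitMap_act {S : Scheme.{u}} {G G' : Over S} [GrpObj G] [GrpObj G'] (π : G ⟶ G') [IsMonHom π] :
    (act π).orbitMap η = π := by
  have h := (act π).comp_orbitMap (𝟙 G) η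
  rw [Category.id_comp] at h
  rw [h, AlgGrp.Action.lift_restrict_act, Category.id_comp]
  exact (Hom.mul_def π _).symm.trans (by rw [← Hom.one_def, _root_.mul_one])

/-- A kernel gives a cartesian translation square. -/
theorem isPullback_of_kernel {S : Scheme.{u}} {H G Q : Over S} [GrpObj G] [GrpObj Q] (i : H ⟶ G) [Mono i]
    (π : G ⟶ Q) [IsMonHom π] (hiπ : i ≫ π = 1)
    (hlift : ∀ {T : Over S} (g : T ⟶ G), g ≫ π = 1 → ∃ h : T ⟶ H, h ≫ i = g) :
    IsPullback (fst G H) ((G ◁ i) ≫ μ[G]) π π := by
  have hp : (G ◁ i) ≫ μ[G] = fst G H * (snd G H ≫ i) := by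
    rw [Hom.mul_def]
    congr 1
  have key : ∀ c : PullbackCone π π, (c.fst⁻¹ * c.snd) ≫ π = 1 := fun c => by
    rw [MonObj.mul_comp, GrpObj.inv_comp, c.condition, inv_mul_cancel]
  refine IsPullback.of_isLimit' ⟨?_⟩ (PullbackCone.IsLimit.mk _ (fun c => ?_) (fun c => ?_) (fun c => ?_)
      fun c m h1 h2 => ?_)
  · rw [hp, MonObj.mul_comp, Category.assoc, hiπ, MonObj.comp_one, _root_.mul_one]
  · exact lift c.fst (hlift (c.fst⁻¹ * c.snd) (key c)).choose
  · exact lift_fst _ _
  · rw [lift_whiskerLeft_assoc, ← Hom.mul_def, (hlift (c.fst⁻¹ * c.snd) (key c)).choose_spec, mul_inv_cancel_left]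
  · change m ≫ fst _ _ = c.fst at h1
    change m ≫ _ = c.snd at h2
    have hm' : m = lift c.fst (m ≫ snd _ _) := by rw [← h1, ← comp_lift, lift_fst_snd, Category.comp_id]
    rw [hm', lift_whiskerLeft_assoc, ← Hom.mul_def] at h2
    rw [hm']
    refine congrArg (lift c.fst) ((cancel_mono i).1 ?_)
    rw [(hlift (c.fst⁻¹ * c.snd) (key c)).choose_spec, ← h2, inv_mul_cancel_left]

/-- A short exact sequence of diagonalisable groups is a homogeneous space. -/
theorem isHomog [Finite M] [Module.Finite ℤ N] (f : N →+ M) (hf : Function.Surjective f)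
    [IsMonHom (Red.diagMap k f.ker.subtype)] :
    ChGrp.IsHomog Scheme.fppfPrecoverage (Red.diagMap k f) (act (Red.diagMap k f.ker.subtype)) η := by
  haveI hm := S5427.isMonHom_diagMap k f
  haveI := isClosedImmersion_diagMap k f hf
  let i := Red.diagMap k f
  let π := Red.diagMap k f.ker.subtype
  have horb : (act π).orbitMap η = π := orbitMap_act π
  have hiπ : i ≫ π = 1 := by
    have e0 : Red.diagMap k (0 : f.ker →+ M) = 1 := by
      refine Over.OverMorphism.ext ?_
      rw [Hom.one_def, Over.comp_left, one_left]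
      show Spec.map _ = Spec.map _ ≫ Spec.map _
      rw [← Spec.map_comp]
      refine congrArg Spec.map (CommRingCat.hom_ext ?_)
      refine congrArg AlgHom.toRingHom (MonoidAlgebra.algHom_ext
        (φ₁ := MonoidAlgebra.mapDomainAlgHom k k (AddMonoidHom.toMultiplicative (0 : f.ker →+ M)))
        (φ₂ := (Algebra.ofId k (MonoidAlgebra k (Multiplicative M))).comp
          (Bialgebra.counitAlgHom k (MonoidAlgebra k (Multiplicative f.ker)))) (fun x => ?_) (by ext))
      simp
    rw [← e0]
    refine Over.OverMorphism.ext ?_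
    show Spec.map _ ≫ Spec.map _ = Spec.map _
    rw [← Spec.map_comp]
    refine congrArg Spec.map (CommRingCat.hom_ext ?_)
    refine congrArg AlgHom.toRingHom (MonoidAlgebra.algHom_ext
      (φ₁ := (MonoidAlgebra.mapDomainAlgHom k k (AddMonoidHom.toMultiplicative f)).comp
        (MonoidAlgebra.mapDomainAlgHom k k (AddMonoidHom.toMultiplicative f.ker.subtype)))
      (φ₂ := MonoidAlgebra.mapDomainAlgHom k k (AddMonoidHom.toMultiplicative (0 : f.ker →+ M))) (fun x => ?_) (by ext))
    have : f (f.ker.subtype x.toAdd) = 0 := x.toAdd.2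
    simp only [AlgHom.comp_apply, MonoidAlgebra.mapDomainAlgHom_apply, MonoidAlgebra.mapDomain_single]
    refine congrArg (fun y => MonoidAlgebra.single y (1 : k)) ?_
    exact congrArg Multiplicative.ofAdd this
  haveI : Mono i := (Over.forget _).mono_of_mono_map (inferInstanceAs (Mono i.left))
  refine ⟨hm, ?_, ?_⟩
  · rw [horb]
    exact isPullback_of_kernel i π hiπ fun g hg => exists_lift k f hf g hg
  · rw [horb]
    obtain ⟨s, hs⟩ := hf.hasRightInverse
    have hs' : ∀ m, f (s m) = m := hs
    let e : f.ker × M ≃ N :=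
      { toFun := fun p => p.1.1 + s p.2
        invFun := fun n => (⟨n - s (f n), by simp [hs']⟩, f n)
        left_inv := fun p => by
          have h0 : f (p.1.1 + s p.2) = p.2 := by rw [map_add, show f p.1.1 = 0 from p.1.2, zero_add, hs']
          ext <;> simp [h0]
        right_inv := fun n => sub_add_cancel n _ }
    have hff := (flat_and_surjective_SpecMap_iff (CommRingCat.ofHom
      (MonoidAlgebra.mapDomainRingHom k (AddMonoidHom.toMultiplicative f.ker.subtype)))).mpr
        (H23.AMonFree.faithfullyFlat (f.ker.subtype : f.ker →+ N) e (fun a b m => add_assoc _ _ _) k)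
    haveI : Flat π.left := hff.1
    haveI : Surjective π.left := hff.2
    haveI : AddMonoid.FG N := AddGroup.fg_iff_addMonoid_fg.1 (Module.Finite.iff_addGroup_fg.1 ‹_›)
    haveI : LocallyOfFinitePresentation π.left := by
      haveI : LocallyOfFiniteType (Red.diag k N).hom := by
        show LocallyOfFiniteType (Spec.map (CommRingCat.ofHom (algebraMap k (MonoidAlgebra k (Multiplicative N)))))
        rw [HasRingHomProperty.Spec_iff (P := @LocallyOfFiniteType)]
        exact RingHom.finiteType_algebraMap.2 inferInstance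
      haveI : IsLocallyNoetherian (Red.diag k f.ker).left := by
        haveI : Module.Finite ℤ f.ker := inferInstanceAs (Module.Finite ℤ f.ker.toIntSubmodule)
        haveI : AddMonoid.FG f.ker := AddGroup.fg_iff_addMonoid_fg.1 (Module.Finite.iff_addGroup_fg.1 ‹_›)
        haveI : IsNoetherianRing (MonoidAlgebra k (Multiplicative f.ker)) :=
          Algebra.FiniteType.isNoetherianRing k _
        show IsLocallyNoetherian (Spec _)
        infer_instance
      haveI : LocallyOfFiniteType (π.left ≫ (Red.diag k f.ker).hom) := by rw [Over.w]; infer_instance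
      haveI : LocallyOfFiniteType π.left := locallyOfFiniteType_of_comp π.left (Red.diag k f.ker).hom
      exact LocallyOfFinitePresentation.iff_locallyOfFiniteType.mpr inferInstance
    refine ⟨Presieve.singleton π.left,
      (Scheme.singleton_mem_precoverage_iff (P := @Flat ⊓ @LocallyOfFinitePresentation) π.left).2
        ⟨π.left.surjective, inferInstance, inferInstance⟩, ?_⟩
    rintro _ _ ⟨⟩
    exact ⟨𝟙 _, Category.id_comp _⟩

/-- A diagonalisable group with character group inside a free group of finite rank is smooth. -/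
theorem smooth_ker [IsAlgClosed k] {J : Type} [Finite J] (f : (J → ℤ) →+ M) :
    Smooth (Red.diag k f.ker).hom ∧ Smooth (Red.diag k (J → ℤ)).hom := by
  haveI : Module.Finite ℤ f.ker := inferInstanceAs (Module.Finite ℤ f.ker.toIntSubmodule)
  have key : ∀ (L : Type) [AddCommGroup L] [Module.Finite ℤ L] (e : L →+ (J → ℤ)), Function.Injective e →
      Smooth (Red.diag k L).hom := by
    intro L _ _ e he
    haveI : AddMonoid.FG L := AddGroup.fg_iff_addMonoid_fg.1 (Module.Finite.iff_addGroup_fg.1 ‹_›)
    haveI : IsDomain (MonoidAlgebra k (Multiplicative (J → ℤ))) := NoZeroDivisors.to_isDomain _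
    have hinj : Function.Injective (MonoidAlgebra.mapDomainRingHom k (AddMonoidHom.toMultiplicative e)) :=
      MonoidAlgebra.mapDomain_injective (show Function.Injective (AddMonoidHom.toMultiplicative e) from he)
    haveI : IsDomain (MonoidAlgebra k (Multiplicative L)) := hinj.isDomain _
    haveI : IsReduced (Red.diag k L).left :=
      inferInstanceAs (IsReduced (Spec (CommRingCat.of (MonoidAlgebra k (Multiplicative L)))))
    haveI : LocallyOfFiniteType (Red.diag k L).hom := by
      show LocallyOfFiniteType (Spec.map (CommRingCat.ofHom (algebraMap k (MonoidAlgebra k (Multiplicative L)))))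
      rw [HasRingHomProperty.Spec_iff (P := @LocallyOfFiniteType)]
      exact RingHom.finiteType_algebraMap.2 inferInstance
    exact GrpSchLib.smooth_of_isReduced_of_isAlgClosed _
  exact ⟨key f.ker f.ker.subtype Subtype.val_injective, key (J → ℤ) (AddMonoidHom.id _) fun _ _ h => h⟩

end Groth.Agent.QuotLib.DiagKernel
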