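import Groth.Agent.QuotLib.BalProd

/-!
# The product with a homogeneous space as a balanced product
-/

set_option autoImplicit false
set_option backward.isDefEq.respectTransparency false
set_option backward.isDefEq.respectTransparency.types false
set_option linter.style.haveILetI false

universe u

open CategoryTheory CategoryTheory.Functor CategoryTheory.Limits MonoidalCategory CartesianMonoidalCategory MonObj
open GrpObj Opposite AlgebraicGeometry AlgSp

namespace Groth.Agent.QuotLib.HomogProd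

variable {S : Scheme.{u}} {G H X Q : Over S} [GrpObj G] [GrpObj H] {i : H ⟶ G} [IsMonHom i]
  (aX : AlgGrp.Action G X) (aQ : AlgGrp.Action G Q) (q₀ : 𝟙_ (Over S) ⟶ Q)

local notation "K₀" => Scheme.fppfPrecoverage

/-- The map `(g, x) ↦ (g • q₀, g • x)`. -/
noncomputable def jmap : G ⊗ X ⟶ Q ⊗ X :=
  lift (fst G X ≫ aQ.orbitMap q₀) aX.act

theorem lift_jmap {T : Over S} (g : T ⟶ G) (x : T ⟶ X) :
    lift g x ≫ jmap aX aQ q₀ = lift (lift g (toUnit T ≫ q₀) ≫ aQ.act) (lift g x ≫ aX.act) := by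
  rw [jmap, comp_lift, lift_fst_assoc, aQ.comp_orbitMap]

theorem isEquivariant_jmap :
    AlgGrp.Action.IsEquivariant ((NonAbH1.trivialAction G).prod (AlgGrp.Action.trivial G X)) (aQ.prod aX)
      (jmap aX aQ q₀) := by
  refine AlgGrp.Action.hom_ext_lift₂ fun T g p => ?_
  have hp : p = lift (p ≫ fst G X) (p ≫ snd G X) := by rw [← comp_lift, lift_fst_snd, Category.comp_id]
  rw [hp, AlgGrp.Action.lift_prod_act_assoc, AlgGrp.Action.lift_trivial_act, lift_jmap, lift_whiskerLeft_assoc,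
    lift_jmap, AlgGrp.Action.lift_prod_act]
  have e : lift g (p ≫ fst G X) ≫ (NonAbH1.trivialAction G).act = g * (p ≫ fst G X) := (Hom.mul_def _ _).symm
  rw [e, AlgGrp.Action.lift_mul_act, AlgGrp.Action.lift_mul_act]

variable {aX aQ q₀}

omit [GrpObj H] [IsMonHom i] in
theorem isPullback_fst :
    IsPullback (fst G X) (jmap aX aQ q₀) (aQ.orbitMap q₀) (fst Q X) := by
  refine IsPullback.of_isLimit' ⟨by rw [jmap, lift_fst]⟩ (PullbackCone.IsLimit.mk _
    (fun c => lift c.fst (lift c.fst⁻¹ (c.snd ≫ snd Q X) ≫ aX.act)) (fun c => lift_fst _ _) (fun c => ?_)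
    fun c m h1 h2 => ?_)
  · change lift _ _ ≫ jmap aX aQ q₀ = c.snd
    rw [lift_jmap]
    apply CartesianMonoidalCategory.hom_ext
    · rw [lift_fst, ← aQ.comp_orbitMap]
      exact c.condition
    · rw [lift_snd, ← AlgGrp.Action.lift_mul_act, mul_inv_cancel, AlgGrp.Action.lift_one_act]
  · change m ≫ fst G X = c.fst at h1
    change m ≫ jmap aX aQ q₀ = c.snd at h2
    have hm : m = lift c.fst (m ≫ snd G X) := by rw [← h1, ← comp_lift, lift_fst_snd, Category.comp_id]
    have h3 := congrArg (· ≫ snd Q X) h2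
    rw [hm, lift_jmap, lift_snd] at h3
    rw [hm]
    refine congrArg (lift c.fst) ?_
    rw [← h3, ← AlgGrp.Action.lift_mul_act, inv_mul_cancel, AlgGrp.Action.lift_one_act]

theorem isPullback_twist (hQ : ChGrp.IsHomog K₀ i aQ q₀) :
    IsPullback (ChGrp.twist i (aX.restrict i)).act (snd H (G ⊗ X)) (jmap aX aQ q₀) (jmap aX aQ q₀) := by
  have key : ∀ {T : Over S} (e : T ⟶ H) (g : T ⟶ G),
      (g * (e ≫ i)⁻¹) ≫ aQ.orbitMap q₀ = g ≫ aQ.orbitMap q₀ := by
    intro T e g
    have h := congrArg (fun k => lift g e⁻¹ ≫ k) hQ.2.1.w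
    simp only [Category.assoc, lift_fst_assoc, lift_whiskerLeft_assoc] at h
    rw [h, GrpObj.inv_comp, ← Category.assoc (lift g _) μ[G], ← Hom.mul_def]
  refine IsPullback.of_isLimit' ⟨?_⟩ (PullbackCone.IsLimit.mk _ (fun c => ?_) (fun c => ?_) (fun c => ?_)
    fun c m h1 h2 => ?_)
  · refine AlgGrp.Action.hom_ext_lift₂ fun T e p => ?_
    have hp : p = lift (p ≫ fst G X) (p ≫ snd G X) := by rw [← comp_lift, lift_fst_snd, Category.comp_id]
    rw [hp, ChGrp.lift_twist_act_assoc, lift_snd_assoc, lift_jmap, lift_jmap, ← aQ.comp_orbitMap, ← aQ.comp_orbitMap,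
      key, AlgGrp.Action.lift_restrict_act, ← AlgGrp.Action.lift_mul_act, inv_mul_cancel_right]
  · exact lift ((hQ.2.1.lift (c.snd ≫ fst G X) (c.fst ≫ fst G X) (by
      have h := congrArg (fun k => k ≫ fst Q X) c.condition
      simpa [jmap] using h.symm)) ≫ snd G H)⁻¹ c.snd
  all_goals
    have hc : (c.snd ≫ fst G X) ≫ aQ.orbitMap q₀ = (c.fst ≫ fst G X) ≫ aQ.orbitMap q₀ := by
      have h := congrArg (fun k => k ≫ fst Q X) c.condition
      simpa [jmap] using h.symm
    let l := hQ.2.1.lift (c.snd ≫ fst G X) (c.fst ≫ fst G X) hc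
    have hl1 : l ≫ fst G H = c.snd ≫ fst G X := hQ.2.1.lift_fst _ _ _
    have hl2 : l ≫ (G ◁ i) ≫ μ[G] = c.fst ≫ fst G X := hQ.2.1.lift_snd _ _ _
    have hg : (c.snd ≫ fst G X) * (l ≫ snd G H ≫ i) = c.fst ≫ fst G X := by
      have hl : l = lift (l ≫ fst G H) (l ≫ snd G H) := by rw [← comp_lift, lift_fst_snd, Category.comp_id]
      rw [hl, lift_whiskerLeft_assoc, ← Hom.mul_def, hl1, Category.assoc] at hl2
      exact hl2
  · change lift (l ≫ snd G H)⁻¹ c.snd ≫ _ = c.fst
    have hs : c.snd = lift (c.snd ≫ fst G X) (c.snd ≫ snd G X) := by rw [← comp_lift, lift_fst_snd, Category.comp_id]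
    rw [hs, ChGrp.lift_twist_act, GrpObj.inv_comp, _root_.inv_inv, Category.assoc, hg]
    apply CartesianMonoidalCategory.hom_ext
    · rw [lift_fst]
    · rw [lift_snd, AlgGrp.Action.lift_restrict_act, GrpObj.inv_comp, Category.assoc]
      have h := congrArg (fun k => k ≫ snd Q X) c.condition
      simp only [jmap, Category.assoc, lift_snd] at h
      have hf : c.fst = lift (c.fst ≫ fst G X) (c.fst ≫ snd G X) := by rw [← comp_lift, lift_fst_snd, Category.comp_id]
      rw [hf, hs] at h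
      have h' := congrArg (fun z => lift (c.fst ≫ fst G X)⁻¹ z ≫ aX.act) h
      simp only [← AlgGrp.Action.lift_mul_act, inv_mul_cancel, AlgGrp.Action.lift_one_act] at h'
      rw [h', ← hg, _root_.mul_inv_rev, inv_mul_cancel_right]
  · exact lift_snd _ _
  · change m ≫ (ChGrp.twist i (aX.restrict i)).act = c.fst at h1
    change m ≫ snd H (G ⊗ X) = c.snd at h2
    have hm : m = lift (m ≫ fst H (G ⊗ X)) c.snd := by rw [← h2, ← comp_lift, lift_fst_snd, Category.comp_id]
    have hs : c.snd = lift (c.snd ≫ fst G X) (c.snd ≫ snd G X) := by rw [← comp_lift, lift_fst_snd, Category.comp_id]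
    rw [hm, hs, ChGrp.lift_twist_act] at h1
    have h3 : (c.snd ≫ fst G X) * ((m ≫ fst H (G ⊗ X)) ≫ i)⁻¹ = c.fst ≫ fst G X := by
      rw [← h1, lift_fst]
    rw [hm]
    refine congrArg (fun e => lift e c.snd) ?_
    have e2 : l = lift (c.snd ≫ fst G X) (m ≫ fst H (G ⊗ X))⁻¹ := hQ.2.1.hom_ext
      (by rw [hl1, lift_fst]) (by
        rw [hl2, lift_whiskerLeft_assoc, ← Hom.mul_def, GrpObj.inv_comp, h3])
    show _ = (l ≫ snd G H)⁻¹
    rw [e2, lift_snd, _root_.inv_inv]

/-- The product with a homogeneous space is a balanced product. -/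
theorem isBalProd (hQ : ChGrp.IsHomog K₀ i aQ q₀) :
    ChGrp.IsBalProd K₀ i (aX.restrict i) (aQ.prod aX) (jmap aX aQ q₀) :=
  ⟨isEquivariant_jmap aX aQ q₀, isPullback_twist hQ,
    QuotStack.isLocallyTrivialFor_bc (isPullback_fst (aX := aX)) hQ.2.2⟩

end Groth.Agent.QuotLib.HomogProd
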